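import Groth.Prelude.Def_AlgSp2
import Groth.Agent.FlatB.GeomRed
import Groth.Agent.Hensel.EtalePerm

/-!
# Reducedness of etale charts, charts of `X × h_T`
-/

set_option autoImplicit false
universe u

open CategoryTheory CategoryTheory.Limits AlgebraicGeometry Opposite

namespace K649.RedChart

open AlgSp

/-- A scheme etale over a reduced scheme is reduced. -/
theorem isReduced_of_etale {X Y : Scheme.{u}} (f : X ⟶ Y) [Etale f] [IsReduced Y] : IsReduced X := by
  refine Groth.Agent.FlatB.GeomRed.isReduced_of_flat_cover fun x => ?_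
  obtain ⟨_, ⟨V, hV : IsAffineOpen V, rfl⟩, hyV, -⟩ :=
    Y.isBasis_affineOpens.exists_subset_of_mem_open (Set.mem_univ (f x)) isOpen_univ
  obtain ⟨_, ⟨W, hW : IsAffineOpen W, rfl⟩, hxW, hWV⟩ :=
    X.isBasis_affineOpens.exists_subset_of_mem_open (show x ∈ (f ⁻¹ᵁ V : Set X) from hyV)
      (f ⁻¹ᵁ V).isOpen
  have hφ : (f.appLE V W hWV).hom.Etale :=
    HasRingHomProperty.appLE @AlgebraicGeometry.Etale f inferInstance ⟨V, hV⟩ ⟨W, hW⟩ hWV
  have h1 : _root_.IsReduced Γ(Y, V) := inferInstance
  algebraize [(f.appLE V W hWV).hom]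
  have h2 : _root_.IsReduced Γ(X, W) :=
    Groth.Agent.Hensel.EtalePerm.isReduced_of_etale Γ(Y, V) Γ(X, W)
  refine ⟨Spec Γ(X, W), hW.fromSpec, hW.primeIdealOf ⟨x, hxW⟩, hW.fromSpec_primeIdealOf ⟨x, hxW⟩,
    inferInstance, ?_⟩
  exact (affine_isReduced_iff _).2 h2

variable {S : Scheme.{u}}

/-- A property of schemes which ascends along etale morphisms and descends along surjective etale
morphisms holds for every etale chart as soon as it holds etale locally. -/
theorem of_etaleLocally {P : Scheme.{u} → Prop}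
    (h₁ : ∀ {X Y : Scheme.{u}} (f : X ⟶ Y) [Etale f], P Y → P X)
    (h₂ : ∀ {X Y : Scheme.{u}} (f : X ⟶ Y) [Etale f] [Surjective f], P X → P Y)
    {F : Sp S} (hF : EtaleLocally P F) {U : Over S} (a : (yon S).obj U ⟶ F)
    (ha : RepWith @Etale a) : P U.left := by
  obtain ⟨W, q, hq, hq', hW⟩ := hF
  obtain ⟨V, v, fst, hV⟩ := hq.1 a
  obtain ⟨w, rfl⟩ := (yon S).map_surjective fst
  have hv : Etale v.left := hq.2 _ _ _ hV
  have hv' : Surjective v.left := hq'.2 _ _ _ hV
  have hw : Etale w.left := ha.2 _ _ _ hV.flip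
  exact h₂ v.left (h₁ w.left hW)

/-- All etale charts of a sheaf with a reduced etale surjective chart are reduced. -/
theorem isReduced_of_etaleLocally {F : Sp S} (hF : EtaleLocally (fun U => IsReduced U) F)
    {U : Over S} (a : (yon S).obj U ⟶ F) (ha : RepWith @Etale a) : IsReduced U.left :=
  of_etaleLocally (P := fun U => IsReduced U) (fun f _ hY => by
      have : IsReduced _ := hY
      exact isReduced_of_etale f)
    (fun f _ _ hX => by
      have : IsReduced _ := hX
      exact Groth.Agent.FlatB.GeomRed.isReduced_of_flat_of_surjective f) hF a ha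

/-- The chart `h_{U × T} ⟶ X × h_T` induced by a chart `h_U ⟶ X`. -/
noncomputable def prodChart {X : Sp S} {U : Over S} (p : (yon S).obj U ⟶ X) (T : Over S) :
    (yon S).obj (U ⨯ T) ⟶ X ⨯ (yon S).obj T :=
  prodComparison (yon S) U T ≫ prod.map p (𝟙 _)

theorem isPullback_prod_map {C : Type*} [Category C] [HasBinaryProducts C] {X Y : C} (f : X ⟶ Y)
    (T : C) : IsPullback (prod.fst : X ⨯ T ⟶ X) (prod.map f (𝟙 T)) f (prod.fst : Y ⨯ T ⟶ Y) := by
  refine IsPullback.of_isLimit' ⟨by simp⟩ (PullbackCone.IsLimit.mk _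
    (fun s => Limits.prod.lift s.fst (s.snd ≫ Limits.prod.snd)) ?_ ?_ ?_)
  · intro s; exact Limits.prod.lift_fst _ _
  · intro s
    apply Limits.prod.hom_ext
    · rw [Category.assoc, Limits.prod.map_fst, ← Category.assoc, Limits.prod.lift_fst, s.condition]
    · rw [Category.assoc, Limits.prod.map_snd, ← Category.assoc, Limits.prod.lift_snd,
        Category.comp_id]
  · intro s m h1 h2
    apply Limits.prod.hom_ext
    · rw [Limits.prod.lift_fst]; exact h1
    · rw [Limits.prod.lift_snd, ← h2, Category.assoc, Limits.prod.map_snd, Category.comp_id]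

theorem repWith_prodChart (P : MorphismProperty Scheme.{u}) [P.IsStableUnderBaseChange] {X : Sp S}
    {U : Over S} (p : (yon S).obj U ⟶ X) (T : Over S) (hp : RepWith P p) :
    RepWith P (prodChart p T) := by
  have : P.RespectsIso := MorphismProperty.IsStableUnderBaseChange.respectsIso
  have h1 : RepWith P (prod.map p (𝟙 ((yon S).obj T))) :=
    MorphismProperty.of_isPullback (isPullback_prod_map p ((yon S).obj T)) hp
  exact MorphismProperty.RespectsIso.precomp (RepWith P) (prodComparison (yon S) U T) _ h1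

end K649.RedChart
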