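import Groth.Agent.Etcore.EtaleDescend

/-!
# Local lifting of etale morphisms along a closed immersion `Spec (A ⧸ I) ⟶ Spec A`
-/

set_option autoImplicit false
universe u

open CategoryTheory CategoryTheory.Limits AlgebraicGeometry Opposite Polynomial

namespace K649.EtLift

open Groth.Agent.Etcore.EtaleDescend

/-- A standard etale pair over a quotient is, up to replacing `g` by a multiple of it with the same
divisors, the image of a standard etale pair upstairs. -/
theorem exists_pair_lift {A R : Type u} [CommRing A] [CommRing R] (φ : A →+* R)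
    (hφ : Function.Surjective φ) (P : StandardEtalePair R) :
    ∃ (Q : StandardEtalePair A) (n : ℕ), Q.f.map φ = P.f ∧ Q.g.map φ = P.g ^ (n + 1) := by
  obtain ⟨p₁, p₂, n, e⟩ := P.cond
  have hmon : ∃ f : A[X], f.Monic ∧ f.map φ = P.f := by
    rcases subsingleton_or_nontrivial R with h | h
    · exact ⟨1, monic_one, Subsingleton.elim _ _⟩
    · obtain ⟨q, hq⟩ := Polynomial.map_surjective φ hφ P.f
      obtain ⟨q', h1, -, h2⟩ := Polynomial.lifts_and_natDegree_eq_and_monic
        (f := φ) (p := P.f) ((Polynomial.mem_lifts _).2 ⟨q, hq⟩) P.monic_f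
      exact ⟨q', h2, h1⟩
  obtain ⟨f, hf, hfm⟩ := hmon
  obtain ⟨g, hg⟩ := Polynomial.map_surjective φ hφ P.g
  obtain ⟨q₁, hq₁⟩ := Polynomial.map_surjective φ hφ p₁
  obtain ⟨q₂, hq₂⟩ := Polynomial.map_surjective φ hφ p₂
  refine ⟨⟨f, hf, g * (derivative f * q₁ + f * q₂), q₁ * g, q₂ * g, 1, by ring⟩, n, hfm, ?_⟩
  simp only [Polynomial.map_mul, Polynomial.map_add, ← Polynomial.derivative_map, hfm, hg, hq₁, hq₂,
    e, pow_succ']

/-- `aeval` of a mapped polynomial. -/
theorem aeval_map' {A R B : Type u} [CommRing A] [CommRing R] [CommRing B] [Algebra R B]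
    [Algebra A B] (φ : A →+* R) (h : (algebraMap R B).comp φ = algebraMap A B) (p : A[X]) (x : B) :
    aeval x (p.map φ) = aeval x p := by
  simp only [aeval_def, eval₂_map, h]

/-- An etale morphism to `Spec (A ⧸ I)` lifts, near any point of the source, to an etale morphism to
`Spec A`: there are an etale ring map `φ : A ⟶ B` and a morphism `Spec (B ⧸ I B) ⟶ V` over `Spec (A ⧸ I)`, with
`Spec (B ⧸ I B) ⟶ Spec (A ⧸ I)` hitting the image of the point. -/
theorem exists_lift_nhd {A : Type u} [CommRing A] (I : Ideal A) {V : Scheme.{u}}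
    (f : V ⟶ Spec (.of (A ⧸ I))) [AlgebraicGeometry.Etale f] (v : V) :
    ∃ (B : Type u) (_ : CommRing B) (φ : A →+* B) (_ : φ.Etale)
      (k : Spec (.of (B ⧸ I.map φ)) ⟶ V) (y : Spec (.of (B ⧸ I.map φ))),
      k ≫ f = Spec.map (CommRingCat.ofHom (Ideal.quotientMap (I.map φ) φ Ideal.le_comap_map)) ∧
        f (k y) = f v := by
  obtain ⟨P, o, _, y', hy', ho⟩ := exists_std f v
  let X : Scheme.{u} := Spec (.of (A ⧸ I))
  -- the surjection `A ⟶ Γ(Spec (A ⧸ I))`
  let ψ : (CommRingCat.of (A ⧸ I)) ≅ Γ(X, ⊤) := Scheme.ΓSpecIso (.of (A ⧸ I)) |>.symm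
  let ψ' : (A ⧸ I) →+* Γ(X, ⊤) := ψ.hom.hom
  let ψi : Γ(X, ⊤) →+* (A ⧸ I) := ψ.inv.hom
  have hψ1 : ψi.comp ψ' = RingHom.id _ := by
    have := ψ.hom_inv_id
    exact congrArg CommRingCat.Hom.hom this
  have hψ2 : ψ'.comp ψi = RingHom.id _ := by
    have := ψ.inv_hom_id
    exact congrArg CommRingCat.Hom.hom this
  let φ₀ : A →+* Γ(X, ⊤) := ψ'.comp (Ideal.Quotient.mk I)
  have hφ₀ : Function.Surjective φ₀ := by
    intro x
    obtain ⟨a, ha⟩ := Ideal.Quotient.mk_surjective (ψi x)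
    refine ⟨a, ?_⟩
    change ψ' (Ideal.Quotient.mk I a) = x
    rw [ha]
    exact DFunLike.congr_fun hψ2 x
  obtain ⟨Q, n, hf, hg⟩ := exists_pair_lift φ₀ hφ₀ P
  let B := Q.Ring
  let φ : A →+* B := algebraMap A Q.Ring
  have hφ : φ.Etale := RingHom.etale_algebraMap.2 inferInstance
  let C := B ⧸ I.map φ
  -- `C` is an algebra over `Γ(X, ⊤)`
  let q : (A ⧸ I) →+* C := Ideal.quotientMap (I.map φ) φ Ideal.le_comap_map
  let : Algebra Γ(X, ⊤) C := (q.comp ψi).toAlgebra
  have halg : (algebraMap Γ(X, ⊤) C).comp φ₀ = algebraMap A C := by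
    ext a
    change q (ψi (ψ' (Ideal.Quotient.mk I a))) = Ideal.Quotient.mk _ (φ a)
    have h0 : ψi (ψ' (Ideal.Quotient.mk I a)) = Ideal.Quotient.mk I a := DFunLike.congr_fun hψ1 _
    rw [h0]
    exact Ideal.quotientMap_mk
  let x : C := Ideal.Quotient.mk _ Q.X
  have hx : ∀ p : A[X], aeval x p = Ideal.Quotient.mk (I.map φ) (aeval Q.X p) := fun p =>
    (aeval_algHom_apply (Ideal.Quotient.mkₐ A (I.map φ)) Q.X p)
  have hmap : P.HasMap x := by
    constructor
    · rw [← hf, aeval_map' φ₀ halg, hx, (StandardEtalePair.hasMap_X (P := Q)).1, map_zero]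
    · have h1 : IsUnit (aeval x (P.g ^ (n + 1))) := by
        rw [← hg, aeval_map' φ₀ halg, hx]
        exact (StandardEtalePair.hasMap_X (P := Q)).2.map _
      rw [map_pow] at h1
      exact (isUnit_pow_succ_iff).1 h1
  let l : P.Ring →ₐ[Γ(X, ⊤)] C := P.lift x hmap
  let k : Spec (.of C) ⟶ V := Spec.map (CommRingCat.ofHom l.toRingHom) ≫ o
  have hk : k ≫ f = Spec.map (CommRingCat.ofHom q) := by
    dsimp only [k]
    rw [Category.assoc, ho, stdMap, ← Category.assoc, ← Spec.map_comp]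
    have h1 : CommRingCat.ofHom (algebraMap Γ(X, ⊤) P.Ring) ≫ CommRingCat.ofHom l.toRingHom =
        ψ.inv ≫ CommRingCat.ofHom q := by
      ext r
      change l (algebraMap _ _ r) = q (ψi r)
      rw [AlgHom.commutes]
      rfl
    erw [h1]
    rw [Spec.map_comp, Category.assoc]
    have h2 : Spec.map ψ.inv ≫ X.isoSpec.inv = 𝟙 _ := by
      have : Spec.map ψ.inv = X.isoSpec.hom := by
        rw [Scheme.isoSpec_Spec_hom]
        rfl
      rw [this, Iso.hom_inv_id]
    erw [h2]
    exact Category.comp_id _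
  -- the point
  let : Algebra A P.Ring := ((algebraMap Γ(X, ⊤) P.Ring).comp φ₀).toAlgebra
  have halg' : (algebraMap Γ(X, ⊤) P.Ring).comp φ₀ = algebraMap A P.Ring := rfl
  have hmap' : Q.HasMap P.X := by
    constructor
    · rw [← aeval_map' φ₀ halg', hf]; exact (StandardEtalePair.hasMap_X (P := P)).1
    · rw [← aeval_map' φ₀ halg', hg, map_pow]
      exact (StandardEtalePair.hasMap_X (P := P)).2.pow _
  let r₀ : B →ₐ[A] P.Ring := Q.lift P.X hmap'
  have hr₀ : ∀ b ∈ I.map φ, r₀ b = 0 := by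
    intro b hb
    have : I.map φ ≤ RingHom.ker r₀.toRingHom := by
      rw [Ideal.map_le_iff_le_comap]
      intro a ha
      change r₀ (algebraMap A B a) = 0
      rw [AlgHom.commutes]
      change algebraMap Γ(X, ⊤) P.Ring (ψ' (Ideal.Quotient.mk I a)) = 0
      rw [Ideal.Quotient.eq_zero_iff_mem.2 ha, map_zero, map_zero]
    exact this hb
  let r : C →+* P.Ring := Ideal.Quotient.lift (I.map φ) r₀.toRingHom hr₀
  let y : Spec (.of C) := Spec.map (CommRingCat.ofHom r) y'
  refine ⟨B, inferInstance, φ, hφ, k, y, hk, ?_⟩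
  have h3 : Spec.map (CommRingCat.ofHom r) ≫ Spec.map (CommRingCat.ofHom q) = o ≫ f := by
    rw [ho, stdMap, ← Spec.map_comp]
    have hinv : Spec.map ψ.hom = X.isoSpec.inv := by
      have h5 : Spec.map ψ.inv = X.isoSpec.hom := by
        rw [Scheme.isoSpec_Spec_hom]
        rfl
      rw [← cancel_epi X.isoSpec.hom, Iso.hom_inv_id, ← h5, ← Spec.map_comp, Iso.hom_inv_id,
        Spec.map_id]
    rw [← hinv]
    refine Eq.trans (congrArg Spec.map ?_) (Spec.map_comp _ _)
    apply CommRingCat.hom_ext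
    apply Ideal.Quotient.ringHom_ext
    exact RingHom.ext fun a => AlgHom.commutes r₀ a
  rw [← Scheme.Hom.comp_apply, hk, ← hy', ← Scheme.Hom.comp_apply, ← Scheme.Hom.comp_apply, h3]

end K649.EtLift
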