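import Groth.Agent.AlgSp.K604.ProperDvr
import Groth.Agent.AlgSp.K614.Val

/-!
# Universal closedness from lifts over extensions of discrete valuation rings
-/

set_option autoImplicit false
set_option backward.isDefEq.respectTransparency false
universe u

open CategoryTheory CategoryTheory.Limits AlgebraicGeometry Opposite

namespace K649.DvrE

open AlgSp K604.DvrClosed K614.Val

variable {S : Scheme.{u}} {F G H P Q X Y Z : Sp S}

/-- Existence of the dotted arrow, after an extension, for squares over discrete valuation rings. -/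
def DvrExistE (f : X ⟶ Y) : Prop := ∀ sq : ValSq f, IsDiscreteValuationRing sq.A → sq.HasLiftExt

theorem dvrExistE_of_isPullback {f : X ⟶ Y} (H : DvrExistE f) {g : Z ⟶ Y} {fst : P ⟶ X} {snd : P ⟶ Z}
    (h : IsPullback fst snd f g) : DvrExistE snd := by
  intro sq hA
  obtain ⟨e, l, h1, h2⟩ := H (push fst g h.w sq) hA
  let e' : sq.DomExt := ofPush fst g h.w e
  let l' : (yon S).obj e'.ptA' ⟶ X := l
  have h1' : (yon S).map (jK e') ≫ l' = (yon S).map (pK e') ≫ sq.top ≫ fst := h1
  have h2' : l' ≫ f = ((yon S).map (pA e') ≫ sq.bot) ≫ g := by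
    rw [Category.assoc]; exact h2
  refine ⟨e', (hasLift_iff e').2 ⟨h.lift l' ((yon S).map (pA e') ≫ sq.bot) h2', ?_, h.lift_snd _ _ _⟩⟩
  apply h.hom_ext
  · rw [Category.assoc, h.lift_fst, h1', Category.assoc]
  · rw [Category.assoc, h.lift_snd, Category.assoc, sq.comm, ← Category.assoc, ← Category.assoc,
      ← Functor.map_comp, ← Functor.map_comp, pK_j]

/-- **Closedness from lifts over discrete valuation rings**, affine target. -/
theorem isClosedMap_of_affine_target {Z : Over S} [IsAffine Z.left] [IsLocallyNoetherian Z.left] {P : Sp S}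
    (hP : IsQuasiCompactSp P) (g : P ⟶ (yon S).obj Z) (hg : LocP @LocallyOfFiniteType g) (H : DvrExistE g) :
    IsClosedMap (Points.map g) := by
  obtain ⟨U, p, hU, hpe, hps⟩ := K609.QC.exists_affine_chart hP
  obtain ⟨k, hk⟩ := (yon S).map_surjective (p ≫ g)
  have hlft : LocallyOfFiniteType k.left := hg p (𝟙 _) k hpe (repWith_id _ _) (by
    rw [Category.comp_id, hk])
  intro T hT
  let T₁ : Set ↥U.left := Points.ofPt p ⁻¹' T
  have hT₁ : IsClosed T₁ := hT.preimage (Points.continuous_ofPt p)
  have himg : Points.map g '' T = Points.schemeHomeo Z '' (k.left '' T₁) := by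
    ext z
    constructor
    · rintro ⟨t, ht, rfl⟩
      obtain ⟨u, rfl⟩ := K609.Points.surjective_ofPt_of_repWith_surjective hps t
      refine ⟨k.left u, ⟨u, ht, rfl⟩, ?_⟩
      rw [Points.map_ofPt, ← hk]
      exact (K609.Points.ofPt_yon_map k u).symm
    · rintro ⟨_, ⟨u, hu, rfl⟩, rfl⟩
      refine ⟨_, hu, ?_⟩
      rw [Points.map_ofPt, ← hk]
      exact K609.Points.ofPt_yon_map k u
  rw [himg]
  refine (Points.schemeHomeo Z).isClosedMap _ ?_
  -- pass to rings
  let R := Γ(Z.left, ⊤)
  let B := Γ(U.left, ⊤)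
  let φ : R ⟶ B := k.left.appTop
  letI : Algebra R B := φ.hom.toAlgebra
  have hft : Algebra.FiniteType R B := HasRingHomProperty.appTop (P := @LocallyOfFiniteType) k.left hlft
  have hR : IsNoetherianRing R := IsLocallyNoetherian.component_noetherian ⟨⊤, isAffineOpen_top Z.left⟩
  have hsq : U.left.isoSpec.hom ≫ Spec.map φ = k.left ≫ Z.left.isoSpec.hom := Scheme.isoSpec_hom_naturality k.left
  let T₂ : Set (PrimeSpectrum B) := U.left.isoSpec.inv ⁻¹' T₁
  have hT₂ : IsClosed T₂ := hT₁.preimage U.left.isoSpec.inv.continuous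
  have himg2 : k.left '' T₁ = Z.left.isoSpec.hom ⁻¹' (PrimeSpectrum.comap φ.hom '' T₂) := by
    ext z
    constructor
    · rintro ⟨u, hu, rfl⟩
      refine ⟨U.left.isoSpec.hom u, ?_, ?_⟩
      · change U.left.isoSpec.inv (U.left.isoSpec.hom u) ∈ T₁
        rwa [Scheme.hom_inv_apply]
      · change (Spec.map φ) (U.left.isoSpec.hom u) = _
        rw [← Scheme.Hom.comp_apply, hsq, Scheme.Hom.comp_apply]
    · rintro ⟨w, hw, hwz⟩
      refine ⟨U.left.isoSpec.inv w, hw, ?_⟩
      have h1 : Z.left.isoSpec.hom (k.left (U.left.isoSpec.inv w)) = Z.left.isoSpec.hom z := by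
        rw [← hwz, ← Scheme.Hom.comp_apply, ← hsq, Scheme.Hom.comp_apply, Scheme.inv_hom_apply]
        rfl
      exact Z.left.isoSpec.hom.homeomorph.injective h1
  rw [himg2]
  refine IsClosed.preimage Z.left.isoSpec.hom.continuous ?_
  refine isClosed_image_of_dvr T₂ hT₂ ?_
  intro A K _ _ _ _ _ _ x y hxy hx
  -- the square
  let y₁ : Spec (CommRingCat.of A) ⟶ Z.left := Spec.map (CommRingCat.ofHom y) ≫ Z.left.isoSpec.inv
  let x₁ : Spec (CommRingCat.of K) ⟶ U.left := Spec.map (CommRingCat.ofHom x) ≫ U.left.isoSpec.inv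
  have hxy₁ : x₁ ≫ k.left = Spec.map (CommRingCat.ofHom (algebraMap A K)) ≫ y₁ := by
    have h1 : U.left.isoSpec.inv ≫ k.left = Spec.map φ ≫ Z.left.isoSpec.inv := by
      rw [Iso.inv_comp_eq, ← Category.assoc, hsq, Category.assoc, Iso.hom_inv_id, Category.comp_id]
    simp only [x₁, y₁, Category.assoc]
    rw [h1, ← Category.assoc, ← Category.assoc, ← Spec.map_comp, ← Spec.map_comp]
    congr 2
    exact CommRingCat.hom_ext hxy
  let str : Spec (CommRingCat.of A) ⟶ S := y₁ ≫ Z.hom
  let y₂ : Over.mk str ⟶ Z := Over.homMk y₁ rfl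
  let x₂ : Over.mk (Spec.map (CommRingCat.ofHom (algebraMap A K)) ≫ str) ⟶ U := Over.homMk x₁ (by
    rw [← Over.w k, reassoc_of% hxy₁]; rfl)
  have hxy₂ : x₂ ≫ k = jj A K str ≫ y₂ := by
    ext : 1
    exact hxy₁
  let sq : ValSq g := { A := A, K := K, str := str, top := (yon S).map x₂ ≫ p, bot := (yon S).map y₂, comm := (by
    rw [Category.assoc, ← hk, ← Functor.map_comp, ← Functor.map_comp, hxy₂]) }
  obtain ⟨e, l, hl1, hl2⟩ := H sq ‹_›
  change (yon S).map (jK e) ≫ l = (yon S).map (pK e) ≫ (yon S).map x₂ ≫ p at hl1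
  change l ≫ g = (yon S).map (pA e) ≫ (yon S).map y₂ at hl2
  -- the closed point goes to `T`
  have hT3 : IsClosed (Points.ofPt l ⁻¹' T) := hT.preimage (Points.continuous_ofPt l)
  have hgen : Points.ofPt l ((Spec.map (CommRingCat.ofHom (algebraMap e.A' e.K'))) (IsLocalRing.closedPoint e.K')) ∈ T := by
    have h1 := K609.Points.ofPt_yon_map_comp (jK e) l (IsLocalRing.closedPoint e.K')
    rw [hl1, K609.Points.ofPt_yon_map_comp, K609.Points.ofPt_yon_map_comp] at h1
    change Points.ofPt l ((jK e).left (IsLocalRing.closedPoint e.K')) ∈ T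
    rw [← h1]
    have h0 : (pK e).left (IsLocalRing.closedPoint e.K') = (IsLocalRing.closedPoint K : PrimeSpectrum K) :=
      Subsingleton.elim (α := PrimeSpectrum K) _ _
    change x₁ ((pK e).left (IsLocalRing.closedPoint e.K')) ∈ T₁
    rw [h0]
    change x₁ (IsLocalRing.closedPoint K) ∈ T₁
    have h2 : (Spec.map (CommRingCat.ofHom x)) (IsLocalRing.closedPoint K) ∈ T₂ := by
      have h3 : PrimeSpectrum.comap x (IsLocalRing.closedPoint K) = ⟨RingHom.ker x, RingHom.ker_isPrime x⟩ := by
        apply PrimeSpectrum.ext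
        ext b
        change x b ∈ IsLocalRing.maximalIdeal K ↔ x b = 0
        rw [IsLocalRing.maximalIdeal_eq_bot, Ideal.mem_bot]
      change PrimeSpectrum.comap x (IsLocalRing.closedPoint K) ∈ T₂
      rw [h3]; exact hx
    exact h2
  have hcl : Points.ofPt l (show ↥e.ptA'.left from IsLocalRing.closedPoint e.A') ∈ T := by
    have h1 : ((Spec.map (CommRingCat.ofHom (algebraMap e.A' e.K'))) (IsLocalRing.closedPoint e.K') :
        PrimeSpectrum e.A') ⤳ IsLocalRing.closedPoint e.A' := by
      exact (IsLocalRing.specializes_closedPoint _)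
    exact h1.mem_closed hT3 hgen
  obtain ⟨u, hu⟩ := K609.Points.surjective_ofPt_of_repWith_surjective hps
    (Points.ofPt l (show ↥e.ptA'.left from IsLocalRing.closedPoint e.A'))
  have huT : u ∈ T₁ := by
    change Points.ofPt p u ∈ T
    rw [hu]; exact hcl
  have huk : k.left u = y₁ (IsLocalRing.closedPoint A) := by
    apply (Points.schemeHomeo Z).injective
    have h1 := congrArg (Points.map g) hu
    rw [Points.map_ofPt, Points.map_ofPt, hl2, ← hk, K609.Points.ofPt_yon_map, ← Functor.map_comp,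
      K609.Points.ofPt_yon_map] at h1
    refine h1.trans (congrArg (Points.ofScheme Z) ?_)
    have h0 : (pA e).left (show ↥e.ptA'.left from IsLocalRing.closedPoint e.A') = IsLocalRing.closedPoint A := by
      have := e.isLocalHom
      exact IsLocalRing.comap_closedPoint e.φ
    change y₂.left ((pA e).left _) = _
    exact congrArg y₁ h0
  have h3 : y₁ (IsLocalRing.closedPoint A) ∈ k.left '' T₁ := ⟨u, huT, huk⟩
  rw [himg2] at h3
  have h4 : Z.left.isoSpec.hom (y₁ (IsLocalRing.closedPoint A)) = PrimeSpectrum.comap y (IsLocalRing.closedPoint A) := by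
    simp only [y₁]
    rw [Scheme.Hom.comp_apply]
    exact Scheme.inv_hom_apply Z.left.isoSpec _
  rw [Set.mem_preimage, h4] at h3
  exact h3

/-- Target a locally Noetherian scheme. -/
theorem isClosedMap_of_locNoeth {Z : Over S} [IsLocallyNoetherian Z.left] {P : Sp S} (hP : IsAlgSpace P)
    (g : P ⟶ (yon S).obj Z) (hqc : IsQuasiCompactMor g) (hg : LocP @LocallyOfFiniteType g) (H : DvrExistE g) :
    IsClosedMap (Points.map g) := by
  refine K603.UnivClosedAux.isClosedMap_of_charts g fun z => ?_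
  obtain ⟨t, rfl⟩ := (Points.schemeEquiv Z).surjective z
  obtain ⟨R, ι, hι, t', rfl⟩ := Groth.Agent.S10053.exists_affine_nhd Z.left t
  let T : Over S := Over.mk (ι ≫ Z.hom)
  let a : T ⟶ Z := Over.homMk ι rfl
  refine ⟨T, (yon S).map a, t', (repWith_yon_map_iff _ _).2 ?_, ?_, ?_⟩
  · change Etale ι
    infer_instance
  · exact K609.Points.ofPt_yon_map a t'
  · intro P' fst snd sq
    have : IsAffine T.left := inferInstanceAs (IsAffine (Spec R))
    have : IsLocallyNoetherian T.left := isLocallyNoetherian_of_isOpenImmersion ι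
    refine isClosedMap_of_affine_target ?_ snd ?_ (dvrExistE_of_isPullback H sq)
    · exact hqc (IsAlgSpace.yon_obj _) (K596.QC.isQuasiCompactSp_yon _) _ _ _ sq
    · exact K597.locP_bc K597.etLoc_lft sq hP.hasAtlas (IsAlgSpace.yon_obj _).hasAtlas (IsAlgSpace.yon_obj _).hasAtlas hg

/-- A morphism of finite type to a locally Noetherian algebraic space with the existence property for discrete valuation
rings, after extensions, is universally closed. -/
theorem isUnivClosedMor_of_dvrExistE {X Y : Space S} (f : X ⟶ Y) (hft : IsFiniteTypeMor f.hom)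
    (hY : IsLocNoethSp Y.obj) (H : DvrExistE f.hom) : IsUnivClosedMor f.hom := by
  obtain ⟨V, q, hq1, hq2, hV⟩ := hY
  refine (Groth.Agent.S10053.result S f hft.2).2.2 ⟨V, q, hq1, hq2, fun n P fst snd sq => ?_⟩
  have : IsLocallyNoetherian (Over.mk ((𝔸(ULift.{u} (Fin n); V.left) ↘ V.left) ≫ V.hom)).left :=
    LocallyOfFiniteType.isLocallyNoetherian (𝔸(ULift.{u} (Fin n); V.left) ↘ V.left)
  have hP : IsAlgSpace P := K613.Chart.isAlgSpace_of_isPullback Y.property.diag X.property (IsAlgSpace.yon_obj _) sq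
  refine isClosedMap_of_locNoeth hP snd (K596.QC.isQuasiCompactMor_of_isPullback sq hft.2) ?_
    (dvrExistE_of_isPullback H sq)
  exact K597.locP_bc K597.etLoc_lft sq X.property.hasAtlas Y.property.hasAtlas (IsAlgSpace.yon_obj _).hasAtlas hft.1

end K649.DvrE
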