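import Mathlib.RingTheory.DedekindDomain.IntegralClosure
import Mathlib.RingTheory.DedekindDomain.Dvr
import Mathlib.RingTheory.Valuation.ValuationRing
import Mathlib.RingTheory.Valuation.ValuationSubring
import Mathlib.RingTheory.Localization.AtPrime.Basic
import Mathlib.Algebra.GCDMonoid.IntegrallyClosed
import Mathlib.RingTheory.Bezout

/-!
# A valuation ring of a finite separable extension dominating a discrete valuation ring is discrete
-/

set_option autoImplicit false
universe u v

namespace K649.DvrExt

open IsLocalRing

/-- A local domain which contains a discrete valuation ring with the same fraction field and dominates it is equal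
to it; in the form: `V` a DVR, `A'` a local domain, `V → A'` local and injective, with the same fraction field. -/
theorem surjective_of_dvr {V A' K : Type*} [CommRing V] [IsDomain V] [IsDiscreteValuationRing V] [CommRing A'] [IsDomain A']
    [IsLocalRing A'] [Field K] [Algebra V K] [IsFractionRing V K] [Algebra A' K] [IsFractionRing A' K]
    [Algebra V A'] [IsScalarTower V A' K] [IsLocalHom (algebraMap V A')] : Function.Surjective (algebraMap V A') := by
  intro a
  obtain ⟨x, y, hy, hxy⟩ := IsFractionRing.div_surjective (A := V) (algebraMap A' K a)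
  have hy0 : y ≠ 0 := nonZeroDivisors.ne_zero hy
  have hyK : algebraMap V K y ≠ 0 := by
    rwa [Ne, FaithfulSMul.algebraMap_eq_zero_iff]
  rcases ValuationRing.dvd_total x y with ⟨c, hc⟩ | ⟨c, hc⟩
  · -- `y = x c`: `a * c = 1`
    have h1 : a * algebraMap V A' c = 1 := by
      have hx0 : algebraMap V K x ≠ 0 := by
        rw [Ne, FaithfulSMul.algebraMap_eq_zero_iff]
        rintro rfl
        exact hy0 (by rw [hc, zero_mul])
      apply IsFractionRing.injective A' K
      rw [map_mul, map_one, ← hxy, ← IsScalarTower.algebraMap_apply, hc, map_mul]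
      rw [hc, map_mul] at hyK
      have hc0 : algebraMap V K c ≠ 0 := right_ne_zero_of_mul hyK
      rw [div_mul_eq_mul_div, div_self hyK]
    have h2 : IsUnit (algebraMap V A' c) := IsUnit.of_mul_eq_one a (by rw [mul_comm]; exact h1)
    have h3 : IsUnit c := isUnit_of_map_unit _ _ h2
    obtain ⟨d, hd⟩ := h3.exists_right_inv
    refine ⟨d, ?_⟩
    have : a * algebraMap V A' c * algebraMap V A' d = algebraMap V A' d := by rw [h1, one_mul]
    rw [mul_assoc, ← map_mul, hd, map_one, mul_one] at this
    exact this.symm
  · refine ⟨c, ?_⟩
    apply IsFractionRing.injective A' K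
    rw [← IsScalarTower.algebraMap_apply, ← hxy, hc, map_mul]
    field_simp

variable (A K A' K' : Type u) [CommRing A] [IsDomain A] [IsDiscreteValuationRing A] [Field K] [Algebra A K]
  [IsFractionRing A K] [CommRing A'] [IsDomain A'] [ValuationRing A'] [Field K'] [Algebra A' K'] [IsFractionRing A' K']
  (φ : A →+* A') (ψ : K →+* K') 

theorem isDiscreteValuationRing (h : (algebraMap A' K').comp φ = ψ.comp (algebraMap A K)) (hφ : IsLocalHom φ)
    (hfs : letI := ψ.toAlgebra; Module.Finite K K' ∧ Algebra.IsSeparable K K') : IsDiscreteValuationRing A' := by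
  let _ := ψ.toAlgebra
  obtain ⟨_, _⟩ : Module.Finite K K' ∧ Algebra.IsSeparable K K' := hfs
  let _ : Algebra A K' := (ψ.comp (algebraMap A K)).toAlgebra
  let _ : Algebra A A' := φ.toAlgebra
  have : IsScalarTower A K K' := IsScalarTower.of_algebraMap_eq fun x => rfl
  have : IsScalarTower A A' K' := IsScalarTower.of_algebraMap_eq fun x => (RingHom.congr_fun h x).symm
  let C := integralClosure A K'
  have : IsDedekindDomain C := integralClosure.isDedekindDomain A K K'
  have : IsFractionRing C K' := integralClosure.isFractionRing_of_finite_extension K K'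
  -- `C → A'`
  have : IsIntegrallyClosed A' := inferInstance
  have hCA : ∀ c : C, ∃ a : A', algebraMap A' K' a = (c : K') := by
    intro c
    exact IsIntegrallyClosed.algebraMap_eq_of_integral (R := A') (K := K') (IsIntegral.tower_top (R := A) c.2)
  choose g hg using hCA
  let θ : C →+* A' :=
    { toFun := g
      map_one' := IsFractionRing.injective A' K' (by rw [hg, map_one]; rfl)
      map_mul' := fun x y => IsFractionRing.injective A' K' (by rw [hg, map_mul, hg, hg]; rfl)
      map_zero' := IsFractionRing.injective A' K' (by rw [hg, map_zero]; rfl)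
      map_add' := fun x y => IsFractionRing.injective A' K' (by rw [hg, map_add, hg, hg]; rfl) }
  have hθ : ∀ c : C, algebraMap A' K' (θ c) = (c : K') := hg
  let P : Ideal C := (maximalIdeal A').comap θ
  have hP : P.IsPrime := inferInstance
  -- `P` is not zero
  have hP0 : P ≠ ⊥ := by
    obtain ⟨ϖ, hϖ⟩ := IsDiscreteValuationRing.exists_irreducible A
    have h1 : algebraMap A C ϖ ∈ P := by
      have h2 : θ (algebraMap A C ϖ) = φ ϖ := by
        apply IsFractionRing.injective A' K'
        rw [hθ]
        exact (RingHom.congr_fun h ϖ).symm
      change θ (algebraMap A C ϖ) ∈ maximalIdeal A'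
      rw [h2, mem_maximalIdeal]
      exact fun h3 => hϖ.not_isUnit (isUnit_of_map_unit φ _ h3)
    rintro h2
    rw [h2, Ideal.mem_bot] at h1
    have h3 : algebraMap A K' ϖ = 0 := congrArg (fun c : C => (c : K')) h1
    have h4 : Function.Injective (algebraMap A K') := by
      rw [IsScalarTower.algebraMap_eq A K K']
      exact (algebraMap K K').injective.comp (IsFractionRing.injective A K)
    exact hϖ.ne_zero ((map_eq_zero_iff _ h4).1 h3)
  let V := Localization.AtPrime P
  have : IsDiscreteValuationRing V := IsLocalization.AtPrime.isDiscreteValuationRing_of_dedekind_domain C hP0 V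
  have hu : ∀ y : P.primeCompl, IsUnit (θ y) := fun y => by
    have h1 : θ y ∉ maximalIdeal A' := y.2
    rwa [mem_maximalIdeal, mem_nonunits_iff, not_not] at h1
  let θ' : V →+* A' := IsLocalization.lift (M := P.primeCompl) hu
  have hθ' : ∀ c : C, θ' (algebraMap C V c) = θ c := fun c => IsLocalization.lift_eq hu c
  let _ : Algebra V A' := θ'.toAlgebra
  let _ : Algebra V K' := ((algebraMap A' K').comp θ').toAlgebra
  have : IsScalarTower V A' K' := IsScalarTower.of_algebraMap_eq fun x => rfl
  have : IsScalarTower C V K' := IsScalarTower.of_algebraMap_eq fun x => by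
    change (x : K') = algebraMap A' K' (θ' (algebraMap C V x))
    rw [hθ', hθ]
  have : IsFractionRing V K' := IsFractionRing.isFractionRing_of_isDomain_of_isLocalization P.primeCompl V K'
  have : IsLocalHom (algebraMap V A') := by
    constructor
    intro v hv
    obtain ⟨x, y, rfl⟩ := IsLocalization.exists_mk'_eq P.primeCompl v
    rw [IsLocalization.AtPrime.isUnit_mk'_iff V P]
    intro hx
    have h1 : θ' (IsLocalization.mk' V x y) * θ y = θ x := by
      rw [← hθ', ← map_mul, IsLocalization.mk'_spec, hθ']
    have h2 : IsUnit (θ x) := by rw [← h1]; exact IsUnit.mul hv (hu y)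
    exact ((mem_maximalIdeal _).1 hx) h2
  have hsurj : Function.Surjective (algebraMap V A') := surjective_of_dvr (K := K')
  have hinj : Function.Injective (algebraMap V A') := by
    have h1 : Function.Injective (algebraMap V K') := IsFractionRing.injective V K'
    exact fun x y h => h1 (congrArg (algebraMap A' K') h)
  exact IsDiscreteValuationRing.RingEquivClass.isDiscreteValuationRing (RingEquiv.ofBijective (algebraMap V A') ⟨hinj, hsurj⟩)

end K649.DvrExt
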