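import Mathlib.Algebra.Category.ModuleCat.Sheaf.Quasicoherent
import Mathlib.Algebra.Category.ModuleCat.Sheaf.Limits
import Mathlib.Algebra.Category.ModuleCat.Sheaf.Colimits
import Mathlib.CategoryTheory.Sites.EpiMono
import Mathlib.Algebra.Category.Grp.EpiMono
import Mathlib.Algebra.Category.Grp.Abelian
import Mathlib.CategoryTheory.Sites.Abelian

/-!
# Finite families of generating sections, elementwise (sites in arbitrary universes)

If finitely many sections `s i` generate the sheaf of modules `M`, every section of `M` is locally a linear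
combination of the `s i` (`exists_sum`).
-/

set_option autoImplicit false

universe u v₁ u₁ v₃ u₃ v₄ u₄ v₂ u₂

open CategoryTheory CategoryTheory.Limits Opposite

namespace K649.ModGen

section Reflective

variable {A : Type u₁} [Category.{v₁} A] {B : Type u₂} [Category.{v₂} B]
  {C : Type u₃} [Category.{v₃} C]

/-- A functor out of a reflective subcategory preserves colimits of shape `J` if its composition
with the reflector does. -/
theorem preservesColimitsOfShape_of_reflective {L : A ⥤ B} {G : B ⥤ A} (adj : L ⊣ G)
    [IsIso adj.counit] (F : B ⥤ C) (J : Type u₄) [Category.{v₄} J] [HasColimitsOfShape J A]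
    [PreservesColimitsOfShape J (L ⋙ F)] : PreservesColimitsOfShape J F where
  preservesColimit {K} := by
    have : PreservesColimitsOfShape J L := adj.leftAdjoint_preservesColimits.preservesColimitsOfShape
    let e : (K ⋙ G) ⋙ L ≅ K := Functor.associator _ _ _ ≪≫
      Functor.isoWhiskerLeft K (asIso adj.counit) ≪≫ K.rightUnitor
    have : PreservesColimit ((K ⋙ G) ⋙ L) F := by
      refine preservesColimit_of_preserves_colimit_cocone
        (isColimitOfPreserves L (colimit.isColimit (K ⋙ G))) ?_
      exact isColimitOfPreserves (L ⋙ F) (colimit.isColimit (K ⋙ G))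
    exact preservesColimit_of_iso_diagram F e

end Reflective

variable {C : Type u₁} [Category.{v₁} C] {J : GrothendieckTopology C} {R : Sheaf J RingCat.{u}}
  [HasSheafify J AddCommGrpCat.{u}] [J.WEqualsLocallyBijective AddCommGrpCat.{u}]

variable {M N : SheafOfModules.{u} R} (f : M ⟶ N)

/-- `toSheaf` preserves epimorphisms. -/
theorem epi_toSheaf [Epi f] : Epi ((SheafOfModules.toSheaf R).map f) := by
  have : PreservesColimitsOfShape WalkingSpan (presheafToSheaf J AddCommGrpCat.{u}) :=
    (CategoryTheory.sheafificationAdjunction J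
      AddCommGrpCat.{u}).leftAdjoint_preservesColimits.preservesColimitsOfShape
  have : PreservesColimitsOfShape WalkingSpan
      (PresheafOfModules.sheafification.{u} (𝟙 R.obj) ⋙ SheafOfModules.toSheaf.{u} R) :=
    inferInstanceAs (PreservesColimitsOfShape WalkingSpan
      (PresheafOfModules.toPresheaf _ ⋙ presheafToSheaf J AddCommGrpCat.{u}))
  have : PreservesColimitsOfShape WalkingSpan (SheafOfModules.toSheaf.{u} R) :=
    preservesColimitsOfShape_of_reflective
      (PresheafOfModules.sheafificationAdjunction.{u} (𝟙 R.obj)) _ WalkingSpan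
  infer_instance

theorem isLocallySurjective_of_epi [Epi f]
    (hls : ∀ {P Q : Sheaf J AddCommGrpCat.{u}} (g : P ⟶ Q), Epi g → Sheaf.IsLocallySurjective g) :
    Presheaf.IsLocallySurjective J ((PresheafOfModules.toPresheaf R.obj).map f.val) :=
  hls ((SheafOfModules.toSheaf R).map f) (epi_toSheaf f)

/-- Epimorphism of modules: sections lift locally. -/
theorem exists_lift_of_epi [Epi f]
    (hls : ∀ {P Q : Sheaf J AddCommGrpCat.{u}} (g : P ⟶ Q), Epi g → Sheaf.IsLocallySurjective g)
    (X : C) (t : N.val.obj (op X)) : ∃ S : Sieve X, S ∈ J X ∧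
    ∀ ⦃Y : C⦄ (g : Y ⟶ X), S.arrows g →
      ∃ s : M.val.obj (op Y), f.val.app (op Y) s = N.val.restrictₛₗ g.op t := by
  have h := isLocallySurjective_of_epi f hls
  exact ⟨_, h.imageSieve_mem (U := X) t, fun Y g hg => hg⟩

/-- The value of a section at an object, as an element of the module of sections. -/
def sec {M : SheafOfModules.{u} R} (s : M.sections) (X : Cᵒᵖ) : M.val.obj X := s.1 X

lemma sec_map {M : SheafOfModules.{u} R} (s : M.sections) {X Y : Cᵒᵖ} (f : X ⟶ Y) :
    M.val.restrictₛₗ f (sec s X) = sec s Y := s.2 f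

variable (R) in
/-- The coordinate map `R^I → R`. -/
noncomputable def coord {I : Type u} [DecidableEq I] (j : I) :
    SheafOfModules.free (R := R) I ⟶ SheafOfModules.unit R :=
  Cofan.IsColimit.desc (SheafOfModules.isColimitFreeCofan I)
    (fun i => if i = j then 𝟙 _ else 0)

lemma ιFree_coord {I : Type u} [DecidableEq I] (i j : I) :
    SheafOfModules.ιFree (R := R) i ≫ coord R j = if i = j then 𝟙 _ else 0 :=
  Cofan.IsColimit.fac (SheafOfModules.isColimitFreeCofan I) _ _

lemma free_hom_ext {I : Type u} {M : SheafOfModules.{u} R} (f g : SheafOfModules.free I ⟶ M)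
    (h : ∀ i, SheafOfModules.ιFree i ≫ f = SheafOfModules.ιFree i ≫ g) : f = g :=
  Cofan.IsColimit.hom_ext (SheafOfModules.isColimitFreeCofan I) _ _ h

lemma sum_coord {I : Type u} [DecidableEq I] [Fintype I] :
    ∑ j : I, coord R j ≫ SheafOfModules.ιFree j = 𝟙 (SheafOfModules.free (R := R) I) := by
  refine free_hom_ext _ _ fun i => ?_
  rw [Preadditive.comp_sum, Category.comp_id]
  rw [Finset.sum_eq_single i]
  · rw [← Category.assoc, ιFree_coord, if_pos rfl, Category.id_comp]
  · intro j _ hj
    rw [← Category.assoc, ιFree_coord, if_neg (Ne.symm hj), zero_comp]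
  · intro h
    exact absurd (Finset.mem_univ i) h

/-- Elements of the unit sheaf are ring elements. -/
lemma map_unit {M : SheafOfModules.{u} R} (f : SheafOfModules.unit R ⟶ M) (X : Cᵒᵖ)
    (r : R.obj.obj X) :
    f.val.app X (show (SheafOfModules.unit R).val.obj X from r) =
      r • sec (M.unitHomEquiv f) X := by
  have h := (f.val.app X).hom.map_smul r (show (SheafOfModules.unit R).val.obj X from (1 : R.obj.obj X))
  have h1 : r • (show (SheafOfModules.unit R).val.obj X from (1 : R.obj.obj X)) =
    (show (SheafOfModules.unit R).val.obj X from r) := mul_one r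
  rw [h1] at h
  exact h

lemma sum_val_app {M N : SheafOfModules.{u} R} {ι : Type*} (s : Finset ι) (f : ι → (M ⟶ N))
    (X : Cᵒᵖ) (t : M.val.obj X) :
    (∑ i ∈ s, f i).val.app X t = ∑ i ∈ s, (f i).val.app X t := by
  classical
  induction s using Finset.induction_on with
  | empty => simp; rfl
  | insert a s ha ih =>
    rw [Finset.sum_insert ha, Finset.sum_insert ha, ← ih]
    rfl

/-- coordinates of an element of a finite free module -/
noncomputable def co {I : Type u} [DecidableEq I] {X : Cᵒᵖ}
    (t : (SheafOfModules.free (R := R) I).val.obj X) (j : I) : R.obj.obj X :=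
  (coord R j).val.app X t

lemma map_free {I : Type u} [DecidableEq I] [Fintype I] {M : SheafOfModules.{u} R}
    (f : SheafOfModules.free (R := R) I ⟶ M) (X : Cᵒᵖ)
    (t : (SheafOfModules.free (R := R) I).val.obj X) :
    f.val.app X t = ∑ j, co t j • sec (M.freeHomEquiv f j) X := by
  have h : f = ∑ j : I, coord R j ≫ SheafOfModules.ιFree j ≫ f := by
    conv_lhs => rw [← Category.id_comp f, ← sum_coord, Preadditive.sum_comp]
    simp
  conv_lhs => rw [h, sum_val_app]
  refine Finset.sum_congr rfl fun j _ => ?_
  change (SheafOfModules.ιFree j ≫ f).val.app X ((coord R j).val.app X t) = _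
  exact map_unit _ _ _

/-- If finitely many sections generate `M`, every section is locally a linear combination of them. -/
theorem exists_sum {M : SheafOfModules.{u} R} (σ : M.GeneratingSections) [Fintype σ.I]
    (hls : ∀ {P Q : Sheaf J AddCommGrpCat.{u}} (g : P ⟶ Q), Epi g → Sheaf.IsLocallySurjective g)
    (X : C) (t : M.val.obj (op X)) : ∃ S : Sieve X, S ∈ J X ∧
    ∀ ⦃Y : C⦄ (g : Y ⟶ X), S.arrows g →
      ∃ c : σ.I → R.obj.obj (op Y), M.val.restrictₛₗ g.op t = ∑ j, c j • sec (σ.s j) (op Y) := by
  classical
  obtain ⟨S, hS, h⟩ := exists_lift_of_epi σ.π hls X t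
  refine ⟨S, hS, fun Y g hg => ?_⟩
  obtain ⟨a, ha⟩ := h g hg
  refine ⟨co a, ?_⟩
  rw [← ha, map_free]
  simp only [Equiv.apply_symm_apply]

omit [HasSheafify J AddCommGrpCat] [J.WEqualsLocallyBijective AddCommGrpCat] in
/-- Morphisms of modules commute with finite linear combinations. -/
lemma app_sum_smul {M N : SheafOfModules.{u} R} (f : M ⟶ N) {X : Cᵒᵖ} {ι : Type*} (s : Finset ι)
    (c : ι → R.obj.obj X) (t : ι → M.val.obj X) :
    f.val.app X (∑ i ∈ s, c i • t i) = ∑ i ∈ s, c i • (show N.val.obj X from f.val.app X (t i)) := by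
  refine (map_sum (f.val.app X).hom (fun i => c i • t i) s).trans ?_
  exact Finset.sum_congr rfl fun i _ => (f.val.app X).hom.map_smul (c i) (t i)

end K649.ModGen
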