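import Groth.Prelude.Def_AlgSpOX3
import Groth.Agent.AlgSp.K611.AbStalk
import Groth.Agent.AlgSp.K649.ModGen

/-!
# A map of modules which is surjective on a stalk, with target of finite type, is surjective nearby
-/

set_option autoImplicit false
universe u
open CategoryTheory CategoryTheory.Limits AlgebraicGeometry Opposite Topology TopologicalSpace
open AlgSp

set_option backward.isDefEq.respectTransparency false

namespace K649.EpiNbhd

open K611 K649.ModGen

variable {S : Scheme.{u}} {X : Sp S}

attribute [local instance] pfc_ab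

theorem hls {E : EtOver X} {P Q : Sheaf ((etTop X).over E) AddCommGrpCat.{u + 1}} (g : P ⟶ Q) :
    Epi g → Sheaf.IsLocallySurjective g := by
  intro h
  exact (Sheaf.isLocallySurjective_iff_epi' AddCommGrpCat.{u + 1} g).2 h

/-- The underlying presheaf of abelian groups. -/
noncomputable abbrev ab (F : ModEt X) : (EtOver X)ᵒᵖ ⥤ AddCommGrpCat.{u + 1} := ((toAbEt X).obj F).obj

/-- Restriction of sections. -/
noncomputable abbrev res (F : ModEt X) {E E' : EtOver X} (g : E' ⟶ E) (t : F.val.obj (op E)) :
    F.val.obj (op E') := F.val.restrictₛₗ g.op t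

theorem ab_map (F : ModEt X) {E E' : EtOver X} (g : E' ⟶ E) (t : F.val.obj (op E)) :
    (ab F).map g.op (show ToType ((ab F).obj (op E)) from t) = res F g t := rfl

theorem res_res (F : ModEt X) {E E' E'' : EtOver X} (g : E' ⟶ E) (h : E'' ⟶ E')
    (t : F.val.obj (op E)) : res F h (res F g t) = res F (h ≫ g) t := by
  change (ab F).map h.op ((ab F).map g.op (show ToType ((ab F).obj (op E)) from t)) =
    (ab F).map (h ≫ g).op (show ToType ((ab F).obj (op E)) from t)
  rw [op_comp, Functor.map_comp, ConcreteCategory.comp_apply]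

theorem app_res {F G : ModEt X} (φ : G ⟶ F) {E E' : EtOver X} (g : E' ⟶ E)
    (t : G.val.obj (op E)) : φ.val.app (op E') (res G g t) = res F g (φ.val.app (op E) t) :=
  PresheafOfModules.naturality_apply φ.val g.op t

variable (hX : IsAlgSpace X) {F G : ModEt X} (φ : G ⟶ F)

/-- A finite family of sections of `F` over a neighbourhood of a geometric point lifts to `G` over a smaller
neighbourhood if the stalk map is surjective. -/
theorem exists_lifts (p : FieldPt X) (hp : p.IsGeometric)
    (hsurj : Function.Surjective ((ptG hX p hp).presheafFiber.map (((toAbEt X).map φ).hom)))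
    {E : EtOver X} (x : (FieldPt.liftsTo p).obj E) {ι : Type*} (s : Finset ι)
    (t : ι → F.val.obj (op E)) :
    ∃ (E' : EtOver X) (x' : (FieldPt.liftsTo p).obj E') (α : E' ⟶ E),
      (FieldPt.liftsTo p).map α x' = x ∧
        ∀ k ∈ s, ∃ g : G.val.obj (op E'), φ.val.app (op E') g = res F α (t k) := by
  classical
  induction s using Finset.induction_on with
  | empty => exact ⟨E, x, 𝟙 E, by rw [Functor.map_id_apply], by simp⟩
  | insert a s ha ih =>
    obtain ⟨E', x', α, hα, h⟩ := ih
    obtain ⟨q, hq⟩ := hsurj ((ptG hX p hp).toPresheafFiber E' x' (ab F)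
      (show ToType ((ab F).obj (op E')) from res F α (t a)))
    obtain ⟨M, m, g, rfl⟩ := (ptG hX p hp).toPresheafFiber_jointly_surjective q
    rw [(ptG hX p hp).toPresheafFiber_naturality_apply _ M m g] at hq
    obtain ⟨M', m', β, γ, hβ, hγ, e⟩ := exists_common_of_germ_eq hX p hp m x' _ _ hq
    refine ⟨M', m', γ ≫ α, ?_, ?_⟩
    · rw [Functor.map_comp_apply, hγ, hα]
    · intro k hk
      rcases Finset.mem_insert.1 hk with rfl | hk
      · refine ⟨res G β (show G.val.obj (op M) from g), ?_⟩
        rw [app_res, ← res_res]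
        exact e
      · obtain ⟨g', hg'⟩ := h k hk
        refine ⟨res G γ g', ?_⟩
        rw [app_res, hg', res_res]

set_option maxHeartbeats 1600000 in
/-- If the target is of finite type and the map is surjective on the stalk at a geometric point, it is surjective
on the stalks at all geometric points of a neighbourhood. -/
theorem exists_nbhd [F.IsFiniteType] (p : FieldPt X) (hp : p.IsGeometric)
    (hsurj : Function.Surjective ((ptG hX p hp).presheafFiber.map (((toAbEt X).map φ).hom))) :
    ∃ (E : EtOver X) (_ : (FieldPt.liftsTo p).obj E),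
      ∀ (q : FieldPt X) (hq : q.IsGeometric), (FieldPt.liftsTo q).obj E →
        Function.Surjective ((ptG hX q hq).presheafFiber.map (((toAbEt X).map φ).hom)) := by
  obtain ⟨σ, hσ⟩ := SheafOfModules.IsFiniteType.exists_localGeneratorsData F
  have hcl : IsAlgClosed p.K := hp
  obtain ⟨N⟩ := nonempty_etNbhd p hX inferInstance
  obtain ⟨E, f, ⟨i, ⟨e⟩⟩, x, hx⟩ := (ptG hX p hp).jointly_surjective _ (σ.coversTop N.1) N.2
  have hfin : (σ.generators i).IsFiniteType := hσ.isFiniteType i
  have : Fintype (σ.generators i).I := Fintype.ofFinite _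
  let s : (σ.generators i).I → F.val.obj (op E) := fun k =>
    sec ((σ.generators i).s k) (op (Over.mk e))
  obtain ⟨E', x', α, -, h⟩ := exists_lifts hX φ p hp hsurj x Finset.univ s
  choose g hg using fun k => h k (Finset.mem_univ k)
  refine ⟨E', x', fun q hq z => ?_⟩
  intro w
  obtain ⟨M, m, t, rfl⟩ := (ptG hX q hq).toPresheafFiber_jointly_surjective w
  obtain ⟨⟨M', m'⟩, β, γ, -⟩ := exists_nbhd_prod q ⟨M, m⟩ ⟨E', z⟩
  have hβ : (ptG hX q hq).fiber.map β.1 m' = m := β.2
  let t' : F.val.obj (op M') := res F β.1 (show F.val.obj (op M) from t)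
  let u : M' ⟶ σ.X i := γ.1 ≫ α ≫ e
  obtain ⟨T, hT, hsum⟩ := exists_sum (σ.generators i) hls (Over.mk u)
    (show (F.over (σ.X i)).val.obj (op (Over.mk u)) from t')
  rw [GrothendieckTopology.mem_over_iff] at hT
  obtain ⟨M'', v, hv, m'', hm''⟩ := (ptG hX q hq).jointly_surjective _ hT m'
  rw [Sieve.overEquiv_iff] at hv
  obtain ⟨c, hc⟩ := hsum _ hv
  let c' : (σ.generators i).I → (OEtRing X).obj.obj (op M'') := c
  let g' : G.val.obj (op M'') := ∑ k, c' k • res G (v ≫ γ.1) (g k)
  have hsk : ∀ k, φ.val.app (op M'') (res G (v ≫ γ.1) (g k)) =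
      (show F.val.obj (op M'') from sec ((σ.generators i).s k) (op (Over.mk (v ≫ u)))) := by
    intro k
    have e0 := app_res φ (v ≫ γ.1) (g k)
    have e1 : res F (v ≫ γ.1) (φ.val.app (op E') (g k)) = res F (v ≫ γ.1) (res F α (s k)) :=
      congrArg (res F (v ≫ γ.1)) (hg k)
    have e2 := res_res F α (v ≫ γ.1) (s k)
    have e3 : Over.mk (v ≫ u) ⟶ Over.mk e := Over.homMk ((v ≫ γ.1) ≫ α) (by simp [u])
    have e4 := sec_map ((σ.generators i).s k) (X := op (Over.mk e)) (Y := op (Over.mk (v ≫ u)))
      (Over.homMk ((v ≫ γ.1) ≫ α) (by simp [u])).op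
    exact e0.trans (e1.trans (e2.trans e4))
  have hcg : φ.val.app (op M'') g' = res F v t' := by
    refine (app_sum_smul φ Finset.univ c' _).trans ?_
    refine Eq.trans ?_ hc.symm
    exact Finset.sum_congr rfl fun k _ => congrArg (fun z => c' k • z) (hsk k)
  have h2 : (ConcreteCategory.hom ((((toAbEt X).map φ).hom).app (op M'')))
      (show ToType ((ab G).obj (op M'')) from g') =
      (ab F).map v.op ((ab F).map β.1.op t) := hcg
  refine ⟨(ptG hX q hq).toPresheafFiber M'' m'' (ab G)
    (show ToType ((ab G).obj (op M'')) from g'), ?_⟩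
  have e0 := (ptG hX q hq).toPresheafFiber_naturality_apply (((toAbEt X).map φ).hom) M'' m''
    (show ToType ((ab G).obj (op M'')) from g')
  have e1 := (ptG hX q hq).toPresheafFiber_w_apply v m'' (ab F) ((ab F).map β.1.op t)
  have e2 := (ptG hX q hq).toPresheafFiber_w_apply β.1 m' (ab F) t
  rw [hm''] at e1
  rw [hβ] at e2
  exact e0.trans ((congrArg _ h2).trans (e1.trans e2))

end K649.EpiNbhd
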