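import Groth.Agent.AlgSp.K649.FinGlueAlg
import Groth.Agent.AlgSp.K617.FinLoc
import Groth.Agent.AlgSp.K597.LocP
import Groth.Agent.AlgSp.K597.EtLoc
import Groth.Agent.AlgSp.K608.Pts2
import Groth.Agent.AlgSp.K609.Points
import Groth.Agent.AlgSp.K618.FieldFib
import Groth.Agent.AlgSp.K613.Chart
import Groth.Agent.Sga3C.FlatAt
import Groth.Agent.AlgSp.K623.Pts
import Groth.Agent.AlgSp.K611.Pt
import Groth.Prelude.Def_AlgSpMor5

/-!
# Finiteness of an affine morphism in a formal glueing situation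
-/

set_option autoImplicit false
universe u
open CategoryTheory CategoryTheory.Limits AlgebraicGeometry Opposite
open AlgSp

namespace K649.FinGlue

open TensorProduct

variable {S : Scheme.{u}}

/-- Spectra over `S`. -/
noncomputable abbrev sp {A : Type u} [CommRing A] (str : Spec (CommRingCat.of A) ⟶ S) : Over S := Over.mk str

/-- The map of spectra of an algebra. -/
noncomputable abbrev sm (A B : Type u) [CommRing A] [CommRing B] [Algebra A B] :
    Spec (CommRingCat.of B) ⟶ Spec (CommRingCat.of A) := Spec.map (CommRingCat.ofHom (algebraMap A B))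

/-- Maps of spectra over `S`. -/
noncomputable abbrev spm {A : Type u} [CommRing A] (B : Type u) [CommRing B] [Algebra A B]
    (str : Spec (CommRingCat.of A) ⟶ S) : sp (sm A B ≫ str) ⟶ sp str :=
  Over.homMk (sm A B) rfl

theorem isPullback_scheme {T U V W : Over S} {fst : W ⟶ T} {snd : W ⟶ U} {f : T ⟶ V} {g : U ⟶ V}
    (h : IsPullback ((yon S).map fst) ((yon S).map snd) ((yon S).map f) ((yon S).map g)) :
    IsPullback fst.left snd.left f.left g.left :=
  (IsPullback.of_map (yon S) (by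
    apply (yon S).map_injective
    rw [Functor.map_comp, Functor.map_comp, h.w]) h).map (Over.forget S)

variable {A A' C : Type u} [CommRing A] [CommRing A'] [CommRing C] [Algebra A A'] [Algebra A C]

/-- Finiteness of a base change in terms of rings. -/
theorem finite_of_isPullback {W : Scheme.{u}} {l : W ⟶ Spec (CommRingCat.of A')}
    {i : W ⟶ Spec (CommRingCat.of C)} (h : IsPullback l i (sm A A') (sm A C)) (hi : IsFinite i) :
    Module.Finite C (C ⊗[A] A') := by
  let inl : CommRingCat.of C ⟶ CommRingCat.of (C ⊗[A] A') := CommRingCat.ofHom Algebra.TensorProduct.includeLeftRingHom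
  let inr : CommRingCat.of A' ⟶ CommRingCat.of (C ⊗[A] A') := CommRingCat.ofHom
    (Algebra.TensorProduct.includeRight (R := A) (A := C) (B := A')).toRingHom
  have hpo : IsPushout (CommRingCat.ofHom (algebraMap A C)) (CommRingCat.ofHom (algebraMap A A')) inl inr :=
    CommRingCat.isPushout_tensorProduct A C A'
  have hpb : IsPullback (Spec.map inr) (Spec.map inl) (sm A A') (sm A C) :=
    (isPullback_SpecMap_of_isPushout _ _ _ _ hpo).flip
  have e : Spec.map inl = (h.isoIsPullback _ _ hpb).inv ≫ i := (h.isoIsPullback_inv_snd _ _ hpb).symm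
  have h1 : IsFinite (Spec.map inl) := by
    rw [e]
    infer_instance
  have h2 : inl.hom.Finite := (IsFinite.SpecMap_iff inl).1 h1
  exact RingHom.finite_algebraMap.1 (show (algebraMap C (C ⊗[A] A')).Finite from h2)

theorem finite_tensor (str : Spec (CommRingCat.of A) ⟶ S) {X' X : Sp S} {p : X' ⟶ X}
    (a : (yon S).obj (sp str) ⟶ X) (fst : (yon S).obj (sp (sm A A' ≫ str)) ⟶ X')
    (sq : IsPullback fst ((yon S).map (spm A' str)) p a)
    {U' U : Sp S} {pU : U' ⟶ U} {aU : U' ⟶ X'} {j : U ⟶ X} (sqU : IsPullback aU pU p j) (hpU : IsFiniteMor pU)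
    (τ : (yon S).obj (sp (sm A C ≫ str)) ⟶ U)
    (hτ : τ ≫ j = (yon S).map (spm C str) ≫ a) : Module.Finite C (C ⊗[A] A') := by
  obtain ⟨W, i, fst', sq', hW, hfin⟩ := hpU (Z := sp (sm A C ≫ str)) (inferInstanceAs (IsAffine (Spec _))) τ
  have sq1 := sq'.paste_horiz sqU
  rw [hτ] at sq1
  obtain ⟨l, hl⟩ := (yon S).map_surjective (sq.lift (fst' ≫ aU) ((yon S).map i ≫ (yon S).map (spm C str))
    (by rw [Category.assoc]; exact sq1.w))
  have hl1 : (yon S).map l ≫ fst = fst' ≫ aU := by rw [hl]; exact sq.lift_fst _ _ _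
  have hl2 : (yon S).map l ≫ (yon S).map (spm A' str) = (yon S).map i ≫ (yon S).map (spm C str) := by
    rw [hl]; exact sq.lift_snd _ _ _
  have sq2 : IsPullback ((yon S).map l) ((yon S).map i) ((yon S).map (spm A' str)) ((yon S).map (spm C str)) := by
    refine IsPullback.of_right ?_ hl2 sq
    rw [hl1]
    exact sq1
  exact finite_of_isPullback (isPullback_scheme sq2) hfin

/-- A closed immersion of finite presentation into an affine scheme. -/
theorem exists_ideal {Z X : Sp S} (i : Z ⟶ X) (hX : IsAlgSpace X) (hi : RepWith @IsClosedImmersion i)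
    (hifp : LocP @LocallyOfFinitePresentation i)
    (str : Spec (CommRingCat.of A) ⟶ S) (a : (yon S).obj (sp str) ⟶ X) :
    ∃ (I : Ideal A) (z : (yon S).obj (sp (sm A (A ⧸ I) ≫ str)) ⟶ Z), I.FG ∧
      IsPullback z ((yon S).map (spm (A ⧸ I) str)) i a := by
  obtain ⟨ZV, zV, zfst, sqZ⟩ := hi.1 a
  have h1 : IsClosedImmersion zV.left := hi.2 _ _ _ sqZ
  have h2 : LocallyOfFinitePresentation zV.left :=
    (K597.repWith_of_locP K597.etLoc_lfp hX.hasAtlas hi.1 hifp).2 _ _ _ sqZ
  obtain ⟨I, e, he⟩ := IsClosedImmersion.Spec_iff.1 h1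
  have h3 : LocallyOfFinitePresentation (sm A (A ⧸ I)) := by
    have : sm A (A ⧸ I) = e.inv ≫ zV.left := by rw [he, Iso.inv_hom_id_assoc]
    rw [this]
    infer_instance
  have h4 : (algebraMap A (A ⧸ I)).FinitePresentation :=
    (HasRingHomProperty.Spec_iff (P := @LocallyOfFinitePresentation)).1 h3
  have h5 : I.FG := by
    have h6 : Algebra.FinitePresentation A (A ⧸ I) := RingHom.finitePresentation_algebraMap.1 h4
    have h7 := Algebra.FinitePresentation.ker_fG_of_surjective (Algebra.ofId A (A ⧸ I)) Ideal.Quotient.mk_surjective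
    have h8 : RingHom.ker (Algebra.ofId A (A ⧸ I)).toRingHom = I := Ideal.mk_ker
    rwa [h8] at h7
  let ζ : sp (sm A (A ⧸ I) ≫ str) ≅ ZV := Over.isoMk e.symm (by
    change e.inv ≫ ZV.hom = sm A (A ⧸ I) ≫ str
    rw [← Over.w zV, he, Category.assoc, Iso.inv_hom_id_assoc]
    rfl)
  refine ⟨I, (yon S).map ζ.hom ≫ zfst, h5, ?_⟩
  have h9 : (yon S).map (spm (A ⧸ I) str) = (yon S).map ζ.hom ≫ (yon S).map zV := by
    rw [← Functor.map_comp]
    congr 1
    apply Over.OverMorphism.ext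
    change sm A (A ⧸ I) = e.inv ≫ zV.left
    rw [he, Iso.inv_hom_id_assoc]
  rw [h9]
  exact IsPullback.of_iso sqZ ((yon S).mapIso ζ.symm) (Iso.refl _) (Iso.refl _) (Iso.refl _)
    (by simp) (by simp) (by simp) (by simp)

/-- Points of affine schemes. -/
noncomputable abbrev pt' (str : Spec (CommRingCat.of A) ⟶ S) (p : PrimeSpectrum A) : ↥(sp str).left := p

/-- Maps of spectra away from the closed subspace factor through its open complement. -/
theorem exists_factor_away {Z X U : Sp S} {i : Z ⟶ X} {str : Spec (CommRingCat.of A) ⟶ S}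
    {a : (yon S).obj (sp str) ⟶ X} {I : Ideal A} {z : (yon S).obj (sp (sm A (A ⧸ I) ≫ str)) ⟶ Z}
    (sqZ : IsPullback z ((yon S).map (spm (A ⧸ I) str)) i a) {j : U ⟶ X} (hj : RepWith @IsOpenImmersion j)
    (hU : Set.range (Points.map j) = (Set.range (Points.map i))ᶜ) (g : A) (hg : g ∈ I)
    (C : Type u) [CommRing C] [Algebra A C] (hC : IsUnit (algebraMap A C g)) :
    ∃ τ : (yon S).obj (sp (sm A C ≫ str)) ⟶ U, τ ≫ j = (yon S).map (spm C str) ≫ a := by
  refine (K608.Pts.factors_iff_of_isOpenImmersion hj _).2 ?_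
  intro t
  rw [hU, Set.mem_compl_iff]
  intro h
  rw [K608.Pts.ofPt_yon_map_comp] at h
  obtain ⟨v, hv⟩ := K608.Pts.exists_point_of_isPullback_yon sqZ _ h
  let v' : PrimeSpectrum (A ⧸ I) := v
  let t' : PrimeSpectrum C := t
  have h1 : PrimeSpectrum.comap (algebraMap A (A ⧸ I)) v' = PrimeSpectrum.comap (algebraMap A C) t' := hv
  have h2 : g ∈ (PrimeSpectrum.comap (algebraMap A (A ⧸ I)) v').asIdeal := by
    rw [PrimeSpectrum.comap_asIdeal, Ideal.mem_comap]
    have : algebraMap A (A ⧸ I) g = 0 := Ideal.Quotient.eq_zero_iff_mem.2 hg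
    rw [this]
    exact Ideal.zero_mem _
  rw [h1, PrimeSpectrum.comap_asIdeal, Ideal.mem_comap] at h2
  exact t'.isPrime.ne_top (Ideal.eq_top_of_isUnit_mem _ h2 hC)

/-- The point of `Y` above a point of the closed subspace. -/
theorem exists_point {X Y Z FZ : Sp S} {f : Y ⟶ X} {i : Z ⟶ X}
    {iY : FZ ⟶ Y} {fZ : FZ ⟶ Z} (hFZ : IsPullback iY fZ f i) [IsIso fZ] {str : Spec (CommRingCat.of A) ⟶ S}
    {a : (yon S).obj (sp str) ⟶ X} {I : Ideal A}
    {z : (yon S).obj (sp (sm A (A ⧸ I) ≫ str)) ⟶ Z}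
    (sqZ : IsPullback z ((yon S).map (spm (A ⧸ I) str)) i a) (p : PrimeSpectrum A) (hp : I ≤ p.asIdeal) :
    ∃ y ∈ Set.range (Points.map iY), Points.map f y = Points.ofPt a (pt' str p) := by
  obtain ⟨v, hv⟩ : ∃ v : PrimeSpectrum (A ⧸ I), PrimeSpectrum.comap (algebraMap A (A ⧸ I)) v = p := by
    have : p ∈ Set.range (PrimeSpectrum.comap (Ideal.Quotient.mk I)) := by
      rw [range_comap_of_surjective _ _ Ideal.Quotient.mk_surjective, Ideal.mk_ker]
      exact hp
    exact this
  refine ⟨Points.map iY (Points.map (inv fZ) (Points.ofPt z (pt' (sm A (A ⧸ I) ≫ str) v))), ⟨_, rfl⟩, ?_⟩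
  have h1 : inv fZ ≫ iY ≫ f = i := by
    rw [hFZ.w, IsIso.inv_hom_id_assoc]
  rw [← Points.map_comp, ← Points.map_comp, h1, Points.map_ofPt, sqZ.w, K608.Pts.ofPt_yon_map_comp]
  exact congrArg (Points.ofPt a) hv

/-- At a point of the closed subspace there is a flat local algebra whose spectrum maps to `Y`. -/
theorem exists_local {X Y Z FZ : Sp S} (hX : IsAlgSpace X) (hY : IsAlgSpace Y) {f : Y ⟶ X} {i : Z ⟶ X}
    {iY : FZ ⟶ Y} {fZ : FZ ⟶ Z} (hFZ : IsPullback iY fZ f i) [IsIso fZ]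
    (hflat : ∀ y ∈ Set.range (Points.map iY), IsFlatAtMor f y) {str : Spec (CommRingCat.of A) ⟶ S}
    {a : (yon S).obj (sp str) ⟶ X} (ha : RepWith @Etale a) {I : Ideal A}
    {z : (yon S).obj (sp (sm A (A ⧸ I) ≫ str)) ⟶ Z}
    (sqZ : IsPullback z ((yon S).map (spm (A ⧸ I) str)) i a) (p : PrimeSpectrum A) (hp : I ≤ p.asIdeal) :
    ∃ (R : Type u) (_ : CommRing R) (_ : IsLocalRing R) (_ : Algebra A R)
      (τ : (yon S).obj (sp (sm A R ≫ str)) ⟶ Y), Module.Flat A R ∧
        (IsLocalRing.maximalIdeal R).comap (algebraMap A R) = p.asIdeal ∧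
        τ ≫ f = (yon S).map (spm R str) ≫ a := by
  -- the point of `Y`
  obtain ⟨y, hyr, hyf⟩ := exists_point hFZ sqZ p hp
  -- a chart of `Y ×_X Spec A`
  have sqP := IsPullback.of_hasPullback f a
  obtain ⟨w, hw1, hw2⟩ := K609.Points.exists_of_isPullback sqP y (Points.ofScheme (sp str) (pt' str p))
    (hyf.trans (Points.ofPt_eq_map_ofScheme a (pt' str p)))
  have hPa : IsAlgSpace (pullback f a) := K613.Chart.isAlgSpace_pullback hY (IsAlgSpace.yon_obj _) hX _ _
  obtain ⟨B, c, b, hc, -, hb⟩ := K618.FieldFib.exists_chart_point hPa w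
  obtain ⟨β, hβ⟩ := (yon S).map_surjective (c ≫ pullback.snd f a)
  have hβb : β.left b = pt' str p := by
    apply K623.Pts.ofScheme_injective (sp str)
    rw [← K611.ofPt_yon_map, hβ, ← Points.map_ofPt, hb, hw2]
  have hfl := hflat y hyr (c ≫ pullback.fst f a) a β b
    (K597.etale_comp hc (K597.repWith_bc' _ sqP ha)) ha (by rw [Category.assoc, sqP.w, ← Category.assoc, hβ])
    (by rw [← Points.map_ofPt, hb, hw1])
  -- the local ring
  let R : CommRingCat.{u} := B.left.presheaf.stalk b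
  let r : Spec R ⟶ Spec (CommRingCat.of A) := B.left.fromSpecStalk b ≫ β.left
  let θ : CommRingCat.of A ⟶ R := Spec.preimage r
  have hθ : Spec.map θ = r := Spec.map_preimage _
  let _ : Algebra A R := θ.hom.toAlgebra
  have hsm : sm A R = r := hθ
  have hw : sm A R ≫ str = B.left.fromSpecStalk b ≫ B.hom := by
    rw [hsm, Category.assoc]
    exact congrArg (B.left.fromSpecStalk b ≫ ·) (Over.w β)
  let ρ : sp (sm A R ≫ str) ⟶ B := Over.homMk (B.left.fromSpecStalk b) hw.symm
  refine ⟨R, inferInstance, inferInstanceAs (IsLocalRing (B.left.presheaf.stalk b)), θ.hom.toAlgebra,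
    (yon S).map ρ ≫ c ≫ pullback.fst f a, ?_, ?_, ?_⟩
  · have h1 : Flat (Spec.map θ) := by
      rw [hθ]
      have h2 : r = Spec.map (β.left.stalkMap b) ≫ (Spec (CommRingCat.of A)).fromSpecStalk (β.left b) :=
        (Scheme.SpecMap_stalkMap_fromSpecStalk β.left).symm
      rw [h2]
      have h3 : Flat (Spec.map (β.left.stalkMap b)) := Flat.SpecMap_iff.2 hfl
      have h4 : Flat ((Spec (CommRingCat.of A)).fromSpecStalk (β.left b)) :=
        Groth.Agent.Sga3C.FlatAt.flat_fromSpecStalk _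
      exact MorphismProperty.comp_mem @Flat _ _ h3 h4
    have h4 : θ.hom.Flat := Flat.SpecMap_iff.1 h1
    exact h4
  · have h1 : (Spec.map θ) (IsLocalRing.closedPoint R) = p := by
      rw [hθ]
      refine (Scheme.Hom.comp_apply _ _ _).trans ?_
      rw [Scheme.fromSpecStalk_closedPoint]
      exact hβb
    exact congrArg PrimeSpectrum.asIdeal h1
  · rw [Category.assoc, Category.assoc, sqP.w, ← Category.assoc c, ← hβ, ← Category.assoc, ← Functor.map_comp]
    congr 2
    apply Over.OverMorphism.ext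
    exact hsm.symm

/-- Every affine scheme over `S` is a spectrum. -/
theorem exists_iso_sp (V : Over S) (hV : IsAffine V.left) :
    ∃ (A : Type u) (_ : CommRing A) (str : Spec (CommRingCat.of A) ⟶ S), Nonempty (sp str ≅ V) :=
  ⟨Γ(V.left, ⊤), inferInstance, V.left.isoSpec.inv ≫ V.hom, ⟨Over.isoMk V.left.isoSpec.symm (by simp)⟩⟩

/-- Base changes of affine morphisms are spectra of algebras. -/
theorem exists_algebra {X' X : Sp S} {p : X' ⟶ X} (hp : IsAffineMor p) (str : Spec (CommRingCat.of A) ⟶ S)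
    (a : (yon S).obj (sp str) ⟶ X) :
    ∃ (A' : Type u) (_ : CommRing A') (_ : Algebra A A') (fst : (yon S).obj (sp (sm A A' ≫ str)) ⟶ X'),
      IsPullback fst ((yon S).map (spm A' str)) p a := by
  obtain ⟨W, i, fst, sq, hW⟩ := hp (Z := sp str) (inferInstanceAs (IsAffine (Spec _))) a
  let A' : CommRingCat.{u} := Γ(W.left, ⊤)
  let θ : CommRingCat.of A ⟶ A' := Spec.preimage (W.left.isoSpec.inv ≫ i.left)
  have hθ : Spec.map θ = W.left.isoSpec.inv ≫ i.left := Spec.map_preimage _
  let _ : Algebra A A' := θ.hom.toAlgebra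
  have hsm : sm A A' = W.left.isoSpec.inv ≫ i.left := hθ
  have hw : W.left.isoSpec.inv ≫ W.hom = sm A A' ≫ str := by
    rw [hsm, Category.assoc]
    exact congrArg (W.left.isoSpec.inv ≫ ·) (Over.w i).symm
  let ζ : sp (sm A A' ≫ str) ≅ W := Over.isoMk W.left.isoSpec.symm hw
  refine ⟨A', inferInstance, inferInstance, (yon S).map ζ.hom ≫ fst, ?_⟩
  have h9 : (yon S).map (spm A' str) = (yon S).map ζ.hom ≫ (yon S).map i := by
    rw [← Functor.map_comp]
    congr 1
    apply Over.OverMorphism.ext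
    exact hsm
  rw [h9]
  exact IsPullback.of_iso sq ((yon S).mapIso ζ.symm) (Iso.refl _) (Iso.refl _) (Iso.refl _)
    (by simp) (by simp) (by simp) (by simp)

/-- Finiteness of an affine morphism in a formal glueing situation. -/
theorem isFiniteMor {X Y Z FZ U : Sp S} (hX : IsAlgSpace X) (hY : IsAlgSpace Y) {f : Y ⟶ X} {i : Z ⟶ X}
    (hi : RepWith @IsClosedImmersion i) (hifp : LocP @LocallyOfFinitePresentation i)
    {iY : FZ ⟶ Y} {fZ : FZ ⟶ Z} (hFZ : IsPullback iY fZ f i) [IsIso fZ]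
    (hflat : ∀ y ∈ Set.range (Points.map iY), IsFlatAtMor f y) {j : U ⟶ X} (hj : RepWith @IsOpenImmersion j)
    (hU : Set.range (Points.map j) = (Set.range (Points.map i))ᶜ)
    {X' U' Y' : Sp S} {p : X' ⟶ X} (hp : IsAffineMor p) {aU : U' ⟶ X'} {pU : U' ⟶ U}
    (sqU : IsPullback aU pU p j) (hpU : IsFiniteMor pU) {aY : Y' ⟶ X'} {pY : Y' ⟶ Y}
    (sqY : IsPullback aY pY p f) (hpY : IsFiniteMor pY) : IsFiniteMor p := by
  -- the affine charts
  let ι := Σ' (A : Type u) (_ : CommRing A) (str : Spec (CommRingCat.of A) ⟶ S), {a : (yon S).obj (sp str) ⟶ X // RepWith @Etale a}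
  have key : ∀ q : ι, ∃ (A' : Type u) (_ : CommRing A') (_ : @Algebra q.1 A' q.2.1.toCommSemiring _)
      (fst : (yon S).obj (sp (@sm q.1 A' q.2.1 _ _ ≫ q.2.2.1)) ⟶ X'),
      IsPullback fst ((yon S).map (@spm _ q.1 q.2.1 A' _ _ q.2.2.1)) p q.2.2.2.1 ∧
        IsFiniteMor ((yon S).map (@spm _ q.1 q.2.1 A' _ _ q.2.2.1)) := by
    rintro ⟨A, _, str, a, ha⟩
    obtain ⟨A', _, _, fst, sq⟩ := exists_algebra hp str a
    refine ⟨A', inferInstance, inferInstance, fst, sq, ?_⟩
    have h1 : Module.Finite A A' := by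
      obtain ⟨I, z, hI, sqZ⟩ := exists_ideal i hX hi hifp str a
      obtain ⟨s, hs⟩ := hI
      refine FinGlueAlg.finite_of_glueing I s hs ?_ ?_ ?_
      · intro g hg
        obtain ⟨τ, hτ⟩ := exists_factor_away sqZ hj hU g (hs ▸ Ideal.subset_span hg) (Localization.Away g)
          (IsLocalization.Away.algebraMap_isUnit g)
        exact finite_tensor str a fst sq sqU hpU τ hτ
      · refine finite_tensor (C := A ⧸ I) str a fst sq sqY hpY (z ≫ inv fZ ≫ iY) ?_
        rw [Category.assoc, Category.assoc, hFZ.w, IsIso.inv_hom_id_assoc, sqZ.w]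
      · intro p hp
        obtain ⟨R, _, _, _, τ, hfl, hc, hτ⟩ := exists_local hX hY hFZ hflat ha sqZ p hp
        exact ⟨R, inferInstance, inferInstance, inferInstance, hfl, hc, finite_tensor str a fst sq sqY hpY τ hτ⟩
    have h2 : IsFinite (sm A A') := (IsFinite.SpecMap_iff _).2 (RingHom.finite_algebraMap.2 h1)
    refine K617.FinLoc.isFiniteMor_iff.2 ((repWith_yon_map_iff _ _).2 ?_)
    exact h2
  choose A' c1 c2 fst sq hfin using key
  refine K617.FinLoc.finite_family (ι := ι) (j := fun q => q.2.2.2.1) (fun q => q.2.2.2.2) ?_ sq hfin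
  intro x
  obtain ⟨B, b, t, hb, -, rfl⟩ := K618.FieldFib.exists_chart_point hX x
  obtain ⟨V, v, hV, hv, ⟨t', ht'⟩, -⟩ := K597.Affine.exists_affine_nhd B ⊤ t trivial
  obtain ⟨A, _, str, ⟨e⟩⟩ := exists_iso_sp V hV
  have he0 : IsIso e.hom.left := inferInstanceAs (IsIso ((Over.forget S).map e.hom))
  have he : RepWith @Etale ((yon S).map e.hom ≫ (yon S).map v ≫ b) := by
    refine K597.etale_comp ((repWith_yon_map_iff _ _).2 (inferInstance : Etale e.hom.left)) (K597.etale_comp ?_ hb)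
    refine (repWith_yon_map_iff _ _).2 ?_
    infer_instance
  refine ⟨⟨A, inferInstance, str, _, he⟩, Points.ofScheme (sp str) (e.inv.left t'), ?_⟩
  change Points.map ((yon S).map e.hom ≫ (yon S).map v ≫ b) _ = _
  rw [← Points.ofPt_eq_map_ofScheme, K608.Pts.ofPt_yon_map_comp, K608.Pts.ofPt_yon_map_comp]
  have h3 : e.hom.left (e.inv.left t') = t' := by
    rw [← Scheme.Hom.comp_apply, ← Over.comp_left, Iso.inv_hom_id]
    rfl
  rw [h3, ht']

end K649.FinGlue
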