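import Mathlib.RingTheory.TensorProduct.Finite
import Mathlib.RingTheory.Nakayama
import Mathlib.RingTheory.Flat.Basic
import Mathlib.RingTheory.Localization.Away.Basic
import Mathlib.LinearAlgebra.TensorProduct.RightExactness
import Mathlib.RingTheory.Spectrum.Prime.Basic
import Mathlib.RingTheory.LocalRing.MaximalIdeal.Basic
import Mathlib.Algebra.Module.Torsion.Basic
import Mathlib.LinearAlgebra.TensorProduct.Quotient
import Mathlib.RingTheory.Localization.Module
import Mathlib.Algebra.Module.LocalizedModule.Basic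
import Mathlib.RingTheory.Localization.BaseChange

/-!
# Finiteness of a module in a formal glueing situation
-/

set_option autoImplicit false
universe u v

namespace K649.FinGlueAlg

open TensorProduct

variable {A : Type u} [CommRing A] {M : Type v} [AddCommGroup M] [Module A M]

/-- A finite base change is generated by a finitely generated submodule. -/
theorem exists_fg (C : Type u) [CommRing C] [Algebra A C] [Module.Finite C (C ⊗[A] M)] :
    ∃ N : Submodule A M, N.FG ∧ ∀ N' : Submodule A M, N ≤ N' → Subsingleton (C ⊗[A] (M ⧸ N')) := by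
  classical
  obtain ⟨s, hs⟩ := (Module.Finite.fg_top : (⊤ : Submodule C (C ⊗[A] M)).FG)
  -- every element of `s` is a finite sum of pure tensors
  have h1 : ∀ x : C ⊗[A] M, ∃ t : Finset M, x ∈ Submodule.span C ((fun m => (1 : C) ⊗ₜ[A] m) '' (t : Set M)) := by
    intro x
    induction x using TensorProduct.induction_on with
    | zero => exact ⟨∅, Submodule.zero_mem _⟩
    | tmul c m =>
      refine ⟨{m}, ?_⟩
      have : c ⊗ₜ[A] m = c • ((1 : C) ⊗ₜ[A] m) := by rw [TensorProduct.smul_tmul', smul_eq_mul, mul_one]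
      rw [this]
      exact Submodule.smul_mem _ _ (Submodule.subset_span ⟨m, by simp, rfl⟩)
    | add x y hx hy =>
      obtain ⟨t, ht⟩ := hx
      obtain ⟨t', ht'⟩ := hy
      refine ⟨t ∪ t', Submodule.add_mem _ ?_ ?_⟩
      · exact Submodule.span_mono (Set.image_mono (by simp)) ht
      · exact Submodule.span_mono (Set.image_mono (by simp)) ht'
  choose t ht using h1
  refine ⟨Submodule.span A ((s.biUnion t : Finset M) : Set M), ⟨_, rfl⟩, fun N' hN' => ?_⟩
  -- all tensors vanish in the quotient
  have h2 : ∀ x : C ⊗[A] M, LinearMap.lTensor C N'.mkQ x = 0 := by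
    have h3 : (⊤ : Submodule C (C ⊗[A] M)) ≤ LinearMap.ker (LinearMap.baseChange C N'.mkQ) := by
      rw [← hs, Submodule.span_le]
      intro x hx
      have h4 : Submodule.span C ((fun m => (1 : C) ⊗ₜ[A] m) '' (t x : Set M)) ≤
          LinearMap.ker (LinearMap.baseChange C N'.mkQ) := by
        rw [Submodule.span_le]
        rintro _ ⟨m, hm, rfl⟩
        have h5 : m ∈ N' := hN' (Submodule.subset_span (by
          rw [Finset.mem_coe, Finset.mem_biUnion]
          exact ⟨x, hx, hm⟩))
        rw [SetLike.mem_coe, LinearMap.mem_ker, LinearMap.baseChange_tmul, Submodule.mkQ_apply,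
          (Submodule.Quotient.mk_eq_zero N').2 h5, TensorProduct.tmul_zero]
      exact h4 (ht x)
    intro x
    exact h3 (Submodule.mem_top (x := x))
  refine ⟨fun x y => ?_⟩
  obtain ⟨x, rfl⟩ := LinearMap.lTensor_surjective C N'.mkQ_surjective x
  obtain ⟨y, rfl⟩ := LinearMap.lTensor_surjective C N'.mkQ_surjective y
  rw [h2, h2]

/-- The base change to `A ⧸ I` vanishes iff `I Q = Q`. -/
theorem smul_top_eq {Q : Type v} [AddCommGroup Q] [Module A Q] (I : Ideal A) (h : Subsingleton ((A ⧸ I) ⊗[A] Q)) :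
    I • (⊤ : Submodule A Q) = ⊤ := by
  have h1 : Subsingleton (Q ⧸ (I • (⊤ : Submodule A Q))) :=
    (TensorProduct.quotTensorEquivQuotSMul Q I).symm.injective.subsingleton
  exact Submodule.Quotient.subsingleton_iff.1 h1

theorem map_smul_top {Q : Type v} [AddCommGroup Q] [Module A Q] (I : Ideal A) (h : I • (⊤ : Submodule A Q) = ⊤)
    (R : Type u) [CommRing R] [Algebra A R] :
    (⊤ : Submodule R (R ⊗[A] Q)) ≤ I.map (algebraMap A R) • (⊤ : Submodule R (R ⊗[A] Q)) := by
  intro x _
  induction x using TensorProduct.induction_on with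
  | zero => exact Submodule.zero_mem _
  | add x y hx hy => exact Submodule.add_mem _ (hx trivial) (hy trivial)
  | tmul r q =>
    have hq : q ∈ I • (⊤ : Submodule A Q) := by rw [h]; trivial
    induction hq using Submodule.smul_induction_on' with
    | smul a ha q' _ =>
      have : r ⊗ₜ[A] (a • q') = algebraMap A R a • (r ⊗ₜ[A] q') := by
        rw [TensorProduct.tmul_smul, algebraMap_smul]
      rw [this]
      exact Submodule.smul_mem_smul (Ideal.mem_map_of_mem _ ha) trivial
    | add q₁ _ q₂ _ h₁ h₂ =>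
      rw [TensorProduct.tmul_add]
      exact Submodule.add_mem _ (h₁ trivial) (h₂ trivial)

/-- The finiteness criterion. -/
theorem finite_of_glueing (I : Ideal A) (s : Finset A) (hs : Ideal.span (s : Set A) = I)
    (h1 : ∀ g ∈ s, Module.Finite (Localization.Away g) (Localization.Away g ⊗[A] M))
    (h2 : Module.Finite (A ⧸ I) ((A ⧸ I) ⊗[A] M))
    (h3 : ∀ p : PrimeSpectrum A, I ≤ p.asIdeal → ∃ (R : Type u) (_ : CommRing R) (_ : IsLocalRing R) (_ : Algebra A R),
      Module.Flat A R ∧ (IsLocalRing.maximalIdeal R).comap (algebraMap A R) = p.asIdeal ∧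
        Module.Finite R (R ⊗[A] M)) : Module.Finite A M := by
  classical
  choose! N hN hN' using fun (g : A) (hg : g ∈ s) =>
    have := h1 g hg
    exists_fg (A := A) (M := M) (Localization.Away g)
  obtain ⟨N₀, hN₀, hN₀'⟩ := exists_fg (A := A) (M := M) (A ⧸ I)
  let N₁ : Submodule A M := N₀ ⊔ s.sup N
  have hN₁ : N₁.FG := by
    refine hN₀.sup ?_
    refine Submodule.fg_finset_sup s N ?_
    exact hN
  have hle : ∀ g ∈ s, N g ≤ N₁ := fun g hg => le_sup_of_le_right (Finset.le_sup (f := N) hg)
  -- the quotient vanishes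
  suffices h : N₁ = ⊤ by
    refine ⟨?_⟩
    rw [← h]
    exact hN₁
  have hQ1 : ∀ g ∈ s, Subsingleton (Localization.Away g ⊗[A] (M ⧸ N₁)) := fun g hg => hN' g hg N₁ (hle g hg)
  have hQ2 : I • (⊤ : Submodule A (M ⧸ N₁)) = ⊤ := smul_top_eq I (hN₀' N₁ le_sup_left)
  rw [← Submodule.Quotient.subsingleton_iff]
  refine subsingleton_of_forall_eq 0 fun q => ?_
  by_contra hq
  let J : Ideal A := LinearMap.ker (LinearMap.toSpanSingleton A (M ⧸ N₁) q)
  have hJ : J ≠ ⊤ := by
    intro h
    have h1 : (1 : A) ∈ J := h ▸ Submodule.mem_top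
    have h2 : (1 : A) • q = 0 := h1
    exact hq (by rwa [one_smul] at h2)
  obtain ⟨p, hp, hJp⟩ := Ideal.exists_le_maximal J hJ
  by_cases hI : I ≤ p
  · obtain ⟨R, _, _, _, hflat, hcomap, hfin⟩ := h3 ⟨p, hp.isPrime⟩ hI
    have hfin' : Module.Finite R (R ⊗[A] (M ⧸ N₁)) :=
      Module.Finite.of_surjective (LinearMap.baseChange R N₁.mkQ) (LinearMap.lTensor_surjective R N₁.mkQ_surjective)
    have h4 : (⊤ : Submodule R (R ⊗[A] (M ⧸ N₁))) = ⊥ := by
      refine Submodule.eq_bot_of_le_smul_of_le_jacobson_bot (I.map (algebraMap A R)) _ hfin'.fg_top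
        (map_smul_top I hQ2 R) ?_
      rw [IsLocalRing.jacobson_eq_maximalIdeal ⊥ bot_ne_top]
      rw [Ideal.map_le_iff_le_comap, hcomap]
      exact hI
    have h5 : Subsingleton (R ⊗[A] (M ⧸ N₁)) := subsingleton_of_forall_eq 0 fun x => by
      have : x ∈ (⊤ : Submodule R (R ⊗[A] (M ⧸ N₁))) := trivial
      rw [h4] at this
      exact this
    let ι : (A ⧸ J) →ₗ[A] (M ⧸ N₁) := J.liftQ (LinearMap.toSpanSingleton A (M ⧸ N₁) q) le_rfl
    have hι : Function.Injective ι := by
      rw [← LinearMap.ker_eq_bot]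
      exact Submodule.ker_liftQ_eq_bot _ _ _ le_rfl
    have h6 : Function.Injective (LinearMap.lTensor R ι) := Module.Flat.lTensor_preserves_injective_linearMap ι hι
    have h7 : Subsingleton (R ⊗[A] (A ⧸ J)) := h6.subsingleton
    have h8 : Subsingleton ((A ⧸ J) ⊗[A] R) := (TensorProduct.comm A (A ⧸ J) R).injective.subsingleton
    have h9 : J • (⊤ : Submodule A R) = ⊤ := smul_top_eq J h8
    have h10 : (1 : R) ∈ J • (⊤ : Submodule A R) := by rw [h9]; trivial
    have h11 : J • (⊤ : Submodule A R) ≤ (IsLocalRing.maximalIdeal R).restrictScalars A := by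
      rw [Submodule.smul_le]
      intro a ha r _
      have h12 : algebraMap A R a ∈ IsLocalRing.maximalIdeal R := by
        have : a ∈ (IsLocalRing.maximalIdeal R).comap (algebraMap A R) := by rw [hcomap]; exact hJp ha
        exact this
      rw [Algebra.smul_def]
      exact Ideal.mul_mem_right _ _ h12
    exact (IsLocalRing.maximalIdeal.isMaximal R).ne_top ((Ideal.eq_top_iff_one _).2 (h11 h10))
  · obtain ⟨g, hg, hgp⟩ : ∃ g ∈ s, g ∉ p := by
      by_contra h
      push Not at h
      exact hI (by rw [← hs, Ideal.span_le]; exact h)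
    have := hQ1 g hg
    have h4 : (TensorProduct.mk A (Localization.Away g) (M ⧸ N₁) 1) q = 0 := Subsingleton.elim _ _
    rw [IsLocalizedModule.eq_zero_iff (Submonoid.powers g)] at h4
    obtain ⟨⟨_, n, rfl⟩, hn⟩ := h4
    have h5 : g ^ n ∈ J := hn
    exact hgp (hp.isPrime.mem_of_pow_mem n (hJp h5))

end K649.FinGlueAlg
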