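import Groth.Agent.AlgSp.K620.ExistVC
import Groth.Agent.AlgSp.K651.FieldLift

/-!
# The existence part of the valuative criterion with finite separable extensions (decent case)
-/

set_option autoImplicit false
universe u
open CategoryTheory CategoryTheory.Limits AlgebraicGeometry Opposite Topology

namespace K649.SepVC

open AlgSp IsLocalRing

variable {S : Scheme.{u}} {F G H P : Sp S}

/-- `K620.ExistVC.hasLiftExt_of_specializes` with control on the field extension. -/
theorem hasLift_of_specializes {f : F ⟶ G} (sq : ValSq f) {U : Over S} (a : (yon S).obj U ⟶ F)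
    (b : U ⟶ sq.ptA) (hab : a ≫ f = (yon S).map b ≫ sq.bot) {Ω : Type u} [Field Ω]
    {w : Spec (CommRingCat.of Ω) ⟶ S} (v : Over.mk w ⟶ U) (g : Over.mk w ⟶ sq.ptK)
    (hvg : (yon S).map v ≫ a = (yon S).map g ≫ sq.top) (hvb : v ≫ b = g ≫ sq.j) (u0 : ↥U.left)
    (h : v.left (closedPoint Ω) ⤳ u0) (hu0 : b.left u0 = closedPoint sq.A)
    (Pr : ∀ (L : Type u) [Field L], (sq.K →+* L) → Prop)
    (ψ : sq.K →+* Ω) (hψ : Spec.map (CommRingCat.ofHom ψ) = g.left) (hPr : Pr Ω ψ) :
    ∃ e : sq.DomExt, Pr e.K' e.ψ ∧ e.HasLift := by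
  obtain ⟨A', l, hl, hl0⟩ := K620.ExistVC.exists_val (U := U.left) (Ω := Ω) v.left u0 h
  let φ : CommRingCat.of sq.A ⟶ CommRingCat.of A' := Spec.preimage (l ≫ b.left)
  have hφ : Spec.map φ = l ≫ b.left := Spec.map_preimage _
  have hgl : v.left ≫ b.left = g.left ≫ Spec.map (CommRingCat.ofHom (algebraMap sq.A sq.K)) :=
    congrArg (·.left) hvb
  have hcomm : (algebraMap A' Ω).comp φ.hom = ψ.comp (algebraMap sq.A sq.K) := by
    have h1 : φ ≫ CommRingCat.ofHom (algebraMap A' Ω) = CommRingCat.ofHom (algebraMap sq.A sq.K) ≫ CommRingCat.ofHom ψ := by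
      apply Spec.map_injective
      rw [Spec.map_comp, Spec.map_comp, hφ, hψ, ← Category.assoc, hl, hgl]
    exact congrArg (·.hom) h1
  have hloc : IsLocalHom φ.hom := by
    rw [isLocalHom_iff_comap_closedPoint]
    have h1 : Spec.map φ (closedPoint A') = closedPoint sq.A := by
      rw [hφ]
      exact (Scheme.Hom.comp_apply l b.left _).trans ((congrArg b.left hl0).trans hu0)
    exact h1
  let e : sq.DomExt := { A' := A', K' := Ω, φ := φ.hom, ψ := ψ, comm := hcomm, isLocalHom := hloc }
  have hUs : l ≫ U.hom = Spec.map φ ≫ sq.str := by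
    rw [hφ, Category.assoc]
    exact congrArg (l ≫ ·) (Over.w b).symm
  let l' : e.ptA' ⟶ U := Over.homMk l hUs
  refine ⟨e, hPr, (yon S).map l' ≫ a, ?_, ?_⟩
  · have hw : (Spec.map (CommRingCat.ofHom (algebraMap A' Ω)) ≫ Spec.map φ ≫ sq.str) = w := by
      rw [← hUs, ← Category.assoc, hl]
      exact Over.w v
    let i : e.ptK' ⟶ Over.mk w := Over.homMk (𝟙 _) (by
      change 𝟙 _ ≫ w = _
      rw [Category.id_comp]
      exact hw.symm)
    have h1 : (Over.homMk (Spec.map (CommRingCat.ofHom (algebraMap e.A' e.K'))) rfl : e.ptK' ⟶ e.ptA') ≫ l' = i ≫ v := by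
      apply Over.OverMorphism.ext
      change Spec.map (CommRingCat.ofHom (algebraMap A' Ω)) ≫ l = 𝟙 _ ≫ v.left
      rw [hl]
      exact (Category.id_comp _).symm
    rw [← Category.assoc, ← Functor.map_comp, h1, Functor.map_comp, Category.assoc, hvg, ← Category.assoc,
      ← Functor.map_comp]
    congr 2
    apply Over.OverMorphism.ext
    change 𝟙 _ ≫ g.left = Spec.map (CommRingCat.ofHom ψ)
    rw [hψ]
    exact Category.id_comp _
  · rw [Category.assoc, hab, ← Category.assoc, ← Functor.map_comp]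
    congr 2
    apply Over.OverMorphism.ext
    exact hφ.symm

/-- Finite separable field extensions. -/
def FinSep (k L : Type u) [Field k] [Field L] (ψ : k →+* L) : Prop :=
  letI := ψ.toAlgebra; Module.Finite k L ∧ Algebra.IsSeparable k L

/-- Existence part of the valuative criterion for a decent universally closed morphism of algebraic spaces, with a finite
separable extension of the fraction field. -/
theorem existVC_finSep (hF : IsAlgSpace F) (hG : IsAlgSpace G) (f : F ⟶ G) (hd : IsDecentMor f)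
    (hc : IsUnivClosedMor f) (sq : ValSq f) : ∃ e : sq.DomExt, FinSep sq.K e.K' e.ψ ∧ e.HasLift := by
  have sqP := IsPullback.of_hasPullback f sq.bot
  have hP : IsAlgSpace (pullback f sq.bot) := K613.Chart.isAlgSpace_pullback hF (IsAlgSpace.yon_obj _) hG _ _
  have hcl : IsClosedMap (Points.map (pullback.snd f sq.bot)) :=
    hc (IsAlgSpace.yon_obj _) sq.bot _ _ sqP
  have hdP : IsDecent (pullback f sq.bot) := hd sq.bot _ _ sqP
  let η : (yon S).obj sq.ptK ⟶ pullback f sq.bot := pullback.lift sq.top ((yon S).map sq.j) sq.comm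
  let s : ↥sq.ptK.left := (closedPoint sq.K : ↥(Spec (CommRingCat.of sq.K)))
  let x : Points (pullback f sq.bot) := Points.ofPt η s
  -- a specialization of `x` over the closed point
  have h1 : Points.ofScheme sq.ptA (closedPoint sq.A : ↥(Spec (CommRingCat.of sq.A))) ∈
      Points.map (pullback.snd f sq.bot) '' closure {x} := by
    have h2 : IsClosed (Points.map (pullback.snd f sq.bot) '' closure {x}) := hcl _ isClosed_closure
    have h3 : IsClosed (Points.schemeHomeo sq.ptA ⁻¹' (Points.map (pullback.snd f sq.bot) '' closure {x})) :=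
      h2.preimage (Points.schemeHomeo sq.ptA).continuous
    have h4 : (Points.schemeHomeo sq.ptA).symm (Points.map (pullback.snd f sq.bot) x) ∈
        Points.schemeHomeo sq.ptA ⁻¹' (Points.map (pullback.snd f sq.bot) '' closure {x}) := by
      rw [Set.mem_preimage, Homeomorph.apply_symm_apply]
      exact ⟨x, subset_closure rfl, rfl⟩
    exact K620.ExistVC.closedPoint_mem_of_isClosed (K := sq.K) h3 _ h4
  obtain ⟨x0, hx0, hx0'⟩ := h1
  have hspec : x ⤳ x0 := specializes_iff_mem_closure.2 hx0
  obtain ⟨U, c, u0, hcE, -, hu0⟩ := K618.FieldFib.exists_chart_point hP x0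
  obtain ⟨p, hp, -, hq⟩ := hdP x
  obtain ⟨u, hu, hux⟩ := K618.FieldFib.exists_specializes_lift p hq c hcE u0 (by rw [hp, hu0]; exact hspec)
  -- a finite separable point over `u` and `η`
  obtain ⟨E, i, e, sqE⟩ : ∃ (E : Over S) (i : E ⟶ U) (e : E ⟶ sq.ptK),
      IsPullback ((yon S).map i) ((yon S).map e) c η := by
    obtain ⟨E, e, fst, sqE⟩ := hcE.1 η
    obtain ⟨i, rfl⟩ := (yon S).map_surjective fst
    exact ⟨E, i, e, sqE⟩
  have heE : Etale e.left := hcE.2 _ _ _ sqE
  obtain ⟨z, hz1, hz2⟩ := K611.exists_point_of_isPullback sqE u s (hux.trans hp)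
  obtain ⟨L, _, _, hfin, hsep, jj, -, hjj, hjz⟩ := K651.FieldLift.exists_point (k := sq.K) e.left heE z
  let w : Spec (CommRingCat.of L) ⟶ S := jj ≫ E.hom
  let jE : Over.mk w ⟶ E := Over.homMk jj rfl
  obtain ⟨b, hb⟩ := (yon S).map_surjective (c ≫ pullback.snd f sq.bot)
  have hvg : (yon S).map (jE ≫ i) ≫ c = (yon S).map (jE ≫ e) ≫ η := by
    rw [Functor.map_comp, Functor.map_comp, Category.assoc, Category.assoc, sqE.w]
  refine hasLift_of_specializes sq (c ≫ pullback.fst f sq.bot) b ?_ (jE ≫ i) (jE ≫ e) ?_ ?_ u0 ?_ ?_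
    (fun L _ ψ => FinSep sq.K L ψ) (algebraMap sq.K L) hjj.symm ?_
  · rw [hb, Category.assoc, Category.assoc, pullback.condition]
  · rw [← Category.assoc, hvg, Category.assoc, pullback.lift_fst]
  · apply (yon S).map_injective
    rw [Functor.map_comp _ (jE ≫ i), hb, ← Category.assoc, hvg, Category.assoc, pullback.lift_snd,
      Functor.map_comp _ (jE ≫ e)]
  · have h5 : (jE ≫ i).left (closedPoint L) = u := by
      have h6 : (jE ≫ i).left (closedPoint L) = i.left (jj (closedPoint L)) :=
        Scheme.Hom.comp_apply jj i.left (closedPoint L)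
      exact h6.trans ((congrArg i.left (hjz _)).trans hz1)
    exact h5 ▸ hu
  · apply K609.Points.ofScheme_injective sq.ptA
    rw [← K609.Points.ofPt_yon_map, hb, ← Points.map_ofPt, hu0, hx0']
  · have e1 : (algebraMap sq.K L).toAlgebra = ‹Algebra sq.K L› := by
      apply Algebra.algebra_ext
      intro r
      rfl
    change (letI := (algebraMap sq.K L).toAlgebra; Module.Finite sq.K L ∧ Algebra.IsSeparable sq.K L)
    rw [e1]
    exact ⟨hfin, hsep⟩

end K649.SepVC
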