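import Groth.Agent.AlgSp.K597.LocP
import Groth.Agent.AlgSp.K597.EtLoc
import Groth.Agent.AlgSp.K629.Open
import Groth.Agent.AlgSp.K613.Chart
import Groth.Agent.AlgSp.K610.Sub
import Groth.Agent.AlgSp.K610.Factor
import Groth.Agent.AlgSp.K609.Points
import Groth.Agent.AlgSp.K609.Gpd
import Groth.Agent.AlgSp.K608.OpenEmb
import Groth.Prelude.Def_AlgSpGpd
import Groth.Prelude.Def_AlgSpCov

/-!
# The largest open subspace over which a family has a property is invariant under a groupoid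
-/

set_option autoImplicit false
universe u
open CategoryTheory CategoryTheory.Limits AlgebraicGeometry Opposite
open AlgSp

namespace K649.TauInv

variable {S : Scheme.{u}}

/-- The topologies fppf, étale and smooth on algebraic spaces are given by a property of morphisms of schemes. -/
structure Tau (τ : CovNotion S) (P : MorphismProperty Scheme.{u}) : Prop where
  bc : P.IsStableUnderBaseChange
  loc : K597.EtLoc P
  fppf : P ≤ (@Flat ⊓ @LocallyOfFinitePresentation : MorphismProperty Scheme.{u})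
  iff : ∀ ⦃ι : Type u⦄ ⦃X : Sp S⦄ (Y : ι → Sp S) (g : ∀ i, Y i ⟶ X), IsAlgSpace X →
    (τ Y g ↔ (∀ i, LocP P (g i)) ∧ ∀ x : Points X, ∃ i, x ∈ Set.range (Points.map (g i)))

theorem exists_tau (τ : CovNotion S) (hτ : τ = IsFppfCover ∨ τ = IsEtCover ∨ τ = IsSmCover) :
    ∃ P : MorphismProperty Scheme.{u}, Tau τ P := by
  rcases hτ with rfl | rfl | rfl
  · have := K597.stableBC_inf @Flat.{u} @LocallyOfFinitePresentation.{u}
    refine ⟨@Flat ⊓ @LocallyOfFinitePresentation, this, ?_, le_rfl, ?_⟩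
    · exact ⟨fun A B C e f he hf => ⟨K597.etLoc_flat.precomp e f he hf.1, K597.etLoc_lfp.precomp e f he hf.2⟩,
        fun A B C e f he hf => ⟨K597.etLoc_flat.postcomp e f he hf.1, K597.etLoc_lfp.postcomp e f he hf.2⟩,
        fun A B C e f he hf => ⟨K597.etLoc_flat.cancel e f he hf.1, K597.etLoc_lfp.cancel e f he hf.2⟩,
        fun B C f h => ⟨K597.etLoc_flat.descend' f fun b => by
            obtain ⟨A, e, h1, h2, h3⟩ := h b
            exact ⟨A, e, h1, h2, h3.1⟩,
          K597.etLoc_lfp.descend' f fun b => by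
            obtain ⟨A, e, h1, h2, h3⟩ := h b
            exact ⟨A, e, h1, h2, h3.2⟩⟩⟩
    · intro ι X Y g _
      exact ⟨fun h => ⟨fun i => K597.locP_inf_iff.2 (h.1 i), h.2⟩,
        fun h => ⟨fun i => K597.locP_inf_iff.1 (h.1 i), h.2⟩⟩
  · refine ⟨@Etale, inferInstance, K597.etLoc_etale, fun A B f (hf : Etale f) => ⟨inferInstance, inferInstance⟩, ?_⟩
    intro ι X Y g hX
    exact ⟨fun h => ⟨fun i => K597.locP_etale_of_isEtaleMor (h.1 i), h.2⟩,
      fun h => ⟨fun i => K597.isEtaleMor_of_locP_etale K597.etLoc_etale hX (h.1 i), h.2⟩⟩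
  · refine ⟨@Smooth, inferInstance, K597.etLoc_smooth, fun A B f (hf : Smooth f) => ⟨inferInstance, inferInstance⟩, ?_⟩
    intro ι X Y g _
    exact Iff.rfl

namespace Tau

variable {τ : CovNotion S} {Q : MorphismProperty Scheme.{u}} (hT : Tau τ Q)
include hT

theorem single_iff {X Y : Sp S} (g : Y ⟶ X) (hX : IsAlgSpace X) :
    τ (fun _ : PUnit.{u + 1} => Y) (fun _ => g) ↔ LocP Q g ∧ Function.Surjective (Points.map g) := by
  rw [hT.iff _ _ hX]
  exact ⟨fun h => ⟨h.1 ⟨⟩, fun x => by obtain ⟨_, y, hy⟩ := h.2 x; exact ⟨y, hy⟩⟩,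
    fun h => ⟨fun _ => h.1, fun x => ⟨⟨⟩, h.2 x⟩⟩⟩

/-- A `τ`-local property is stable under base change along and descends along a single covering. -/
theorem prop_iff {P : MorphismProperty (Sp S)} (hP : IsLocalOnBase τ P) {X Y X' Y' : Sp S} {f : X ⟶ Y}
    {g : Y' ⟶ Y} {f' : X' ⟶ Y'} {g' : X' ⟶ X} (sq : IsPullback g' f' f g) (hX : IsAlgSpace X) (hY : IsAlgSpace Y)
    (hY' : IsAlgSpace Y') (hg : LocP Q g) (hgs : Function.Surjective (Points.map g)) : P f ↔ P f' := by
  have hX' : IsAlgSpace X' := K613.Chart.isAlgSpace_of_isPullback hY.diag hX hY' sq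
  have h := hP (fun _ : PUnit.{u + 1} => Y') (fun _ => g) hY (fun _ => hY') ((hT.single_iff g hY).2 ⟨hg, hgs⟩) f hX
    (fun _ => X') (fun _ => f') (fun _ => g') (fun _ => hX') (fun _ => sq)
  exact h.trans ⟨fun h => h ⟨⟩, fun h _ => h⟩

end Tau

/-- Morphisms to an open subspace. -/
theorem exists_lift_openPred {X V : Sp S} {W : Set (Points X)} (f : V ⟶ X)
    (h : ∀ x, Points.map f x ∈ W) : ∃ q : V ⟶ (K610.Sub.openPred W).sub, q ≫ (K610.Sub.openPred W).ι = f := by
  refine (K610.Sub.openPred W).exists_lift f fun T g => ?_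
  rintro _ ⟨t, rfl⟩
  rw [← Points.map_ofPt]
  exact h _

open K608.Gpd K609.Gpd

variable {B : Sp S} (G : GroupoidSp B)

theorem factor (hU : IsAlgSpace G.U) (hR : IsAlgSpace G.R) {τ : CovNotion S} {Q : MorphismProperty Scheme.{u}}
    (hT : Tau τ Q) {P : MorphismProperty (Sp S)} (hP : IsLocalOnBase τ P)
    (hs : τ (fun _ : PUnit.{u + 1} => G.R) (fun _ => G.s)) (ht : τ (fun _ : PUnit.{u + 1} => G.R) (fun _ => G.t))
    {H Z : Sp S} (hH : IsAlgSpace H) (f : H ⟶ G.U) {zt zs : Z ⟶ H} {z : Z ⟶ G.R} (sqt : IsPullback zt z f G.t)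
    (sqs : IsPullback zs z f G.s)
    {W : Sp S} (hWsp : IsAlgSpace W) (w : W ⟶ G.U) (hw : RepWith @IsOpenImmersion w)
    (hmax : ∀ (W' : Sp S) (w' : W' ⟶ G.U), IsAlgSpace W' → RepWith @IsOpenImmersion w' →
      (P (pullback.snd f w') ↔ ∃ k : W' ⟶ W, k ≫ w = w'))
    {T : Sp S} (r : T ⟶ G.R) (a : T ⟶ W) (ha : a ≫ w = r ≫ G.s) : ∃ b : T ⟶ W, b ≫ w = r ≫ G.t := by
  have := hT.bc
  rw [hT.single_iff _ hU] at hs ht
  have hop : @IsOpenImmersion ≤ (@Etale : MorphismProperty Scheme.{u}) := fun _ _ i (_ : IsOpenImmersion i) => inferInstance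
  -- `V = s⁻¹ W`
  have sqV := IsPullback.of_hasPullback G.s w
  have hV : IsAlgSpace (pullback G.s w) := K613.Chart.isAlgSpace_pullback hR hWsp hU _ _
  have hv₁ : RepWith @IsOpenImmersion (pullback.fst G.s w) := K597.repWith_bc' _ sqV hw
  have hv₂ : LocP Q (pullback.snd G.s w) := K597.locP_bc hT.loc sqV hR.hasAtlas hU.hasAtlas hWsp.hasAtlas hs.1
  have hv₂s : Function.Surjective (Points.map (pullback.snd G.s w)) :=
    K609.Points.surjective_map_of_isPullback sqV.flip hs.2
  -- the image of `V` under `t`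
  have hto : IsOpenMap (Points.map G.t) := by
    have := K629.Open.isOpenMor_of_isUnivOpenMor hU (K629.Open.isUnivOpenMor_of_fppf hR hU
      (K597.locP_mono (fun _ _ f hf => (hT.fppf _ hf).1) ht.1) (K597.locP_mono (fun _ _ f hf => (hT.fppf _ hf).2) ht.1))
    exact this
  have hvo : IsOpen (Set.range (Points.map (pullback.fst G.s w ≫ G.t))) := by
    have e : Set.range (Points.map (pullback.fst G.s w ≫ G.t)) =
        Points.map G.t '' (Set.range (Points.map (pullback.fst G.s w))) := by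
      ext x
      simp [Points.map_comp]
    rw [e]
    exact hto _ (K608.OpenEmb.isOpenEmbedding_of_repWith_isOpenImmersion hv₁).isOpen_range
  obtain ⟨q, hq⟩ := exists_lift_openPred (W := Set.range (Points.map (pullback.fst G.s w ≫ G.t)))
    (pullback.fst G.s w ≫ G.t) (fun x => ⟨x, rfl⟩)
  have hj := K610.Sub.repWith_openPred hvo
  have hjr := K610.Sub.range_openPred (Set.range (Points.map (pullback.fst G.s w ≫ G.t)))
  have hjs := K610.Sub.isAlgSpace_of_mono hj.1 hU
  have hjm : Mono (K610.Sub.openPred (Set.range (Points.map (pullback.fst G.s w ≫ G.t)))).ι := inferInstance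
  generalize (K610.Sub.openPred (Set.range (Points.map (pullback.fst G.s w ≫ G.t)))).ι = j at q hq hj hjr hjm
  generalize (K610.Sub.openPred (Set.range (Points.map (pullback.fst G.s w ≫ G.t)))).sub = W' at j q hq hj hjr hjs hjm
  have hqs : Function.Surjective (Points.map q) := by
    intro x
    have : Points.map j x ∈ Set.range (Points.map (pullback.fst G.s w ≫ G.t)) := by rw [← hjr]; exact ⟨x, rfl⟩
    obtain ⟨y, hy⟩ := this
    refine ⟨y, K608.OpenEmb.points_injective_of_mono j ?_⟩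
    rw [← hy, ← hq, Points.map_comp]
  have hqP : LocP Q q := by
    have h1 : LocP Q (pullback.fst G.s w ≫ G.t) := K597.locP_precomp (K597.repWith_mono hop hv₁) ht.1
    rw [← hq] at h1
    exact K597.locP_of_comp hT.loc (Q := @Etale) (fun _ _ _ u v h1 h2 => hT.loc.cancel u v h2 h1) hV.hasAtlas
      hjs.hasAtlas hU.hasAtlas h1 (K597.locP_of_repWith K597.etLoc_etale.precomp (K597.repWith_mono hop hj))
  -- the two descriptions of the base change of `f` to `V`
  have sqZ := IsPullback.of_hasPullback z (pullback.fst G.s w)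
  have sq₁ : IsPullback (pullback.fst z (pullback.fst G.s w) ≫ zt) (pullback.snd z (pullback.fst G.s w)) f
      (q ≫ j) := by
    rw [hq]
    exact (sqZ.flip.paste_vert sqt.flip).flip
  have sq₂ : IsPullback (pullback.fst z (pullback.fst G.s w) ≫ zs) (pullback.snd z (pullback.fst G.s w)) f
      (pullback.snd G.s w ≫ w) := by
    rw [← sqV.w]
    exact (sqZ.flip.paste_vert sqs.flip).flip
  have c₁ := IsPullback.of_bot' sq₁.flip (IsPullback.of_hasPullback f j).flip
  have c₂ := IsPullback.of_bot' sq₂.flip (IsPullback.of_hasPullback f w).flip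
  have p₂ : P (pullback.snd f w) := (hmax W w hWsp hw).2 ⟨𝟙 _, Category.id_comp _⟩
  have p₀ : P (pullback.snd z (pullback.fst G.s w)) :=
    (hT.prop_iff hP c₂.flip (K613.Chart.isAlgSpace_pullback hH hWsp hU _ _) hWsp hV hv₂ hv₂s).1 p₂
  have p₁ : P (pullback.snd f j) :=
    (hT.prop_iff hP c₁.flip (K613.Chart.isAlgSpace_pullback hH hjs hU _ _) hjs hV hqP hqs).2 p₀
  obtain ⟨k, hk⟩ := (hmax W' j hjs hj).1 p₁
  refine ⟨sqV.lift r a ha.symm ≫ q ≫ k, ?_⟩
  rw [Category.assoc, Category.assoc, hk, hq, ← Category.assoc, sqV.lift_fst]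

/-- The largest open subspace over which a family `f : H ⟶ U`, with an isomorphism of its pullbacks along `s` and
`t`, has a `τ`-local property is invariant. -/
theorem isInvariant (hU : IsAlgSpace G.U) (hR : IsAlgSpace G.R) {τ : CovNotion S} {Q : MorphismProperty Scheme.{u}}
    (hT : Tau τ Q) {P : MorphismProperty (Sp S)} (hP : IsLocalOnBase τ P)
    (hs : τ (fun _ : PUnit.{u + 1} => G.R) (fun _ => G.s)) (ht : τ (fun _ : PUnit.{u + 1} => G.R) (fun _ => G.t))
    {H Z : Sp S} (hH : IsAlgSpace H) (f : H ⟶ G.U) {zt zs : Z ⟶ H} {z : Z ⟶ G.R} (sqt : IsPullback zt z f G.t)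
    (sqs : IsPullback zs z f G.s)
    {W : Sp S} (hWsp : IsAlgSpace W) (w : W ⟶ G.U) (hw : RepWith @IsOpenImmersion w)
    (hmax : ∀ (W' : Sp S) (w' : W' ⟶ G.U), IsAlgSpace W' → RepWith @IsOpenImmersion w' →
      (P (pullback.snd f w') ↔ ∃ k : W' ⟶ W, k ≫ w = w')) : G.IsInvariant w := by
  intro T r
  constructor
  · rintro ⟨a, ha⟩
    obtain ⟨b, hb⟩ := factor G hU hR hT hP hs ht hH f sqt sqs hWsp w hw hmax (inv G r) a (by rw [ha, inv_s])
    exact ⟨b, by rw [hb, inv_t]⟩
  · rintro ⟨a, ha⟩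
    exact factor G hU hR hT hP hs ht hH f sqt sqs hWsp w hw hmax r a ha

/-- The pullbacks of `s` along `s` and `t` agree. -/
theorem isPullback_arrows : IsPullback (pullback.fst G.s G.t) (pullback.snd G.s G.t) G.s G.t ∧
    IsPullback G.c (pullback.snd G.s G.t) G.s G.s :=
  ⟨IsPullback.of_hasPullback _ _, isPullback_c_snd G⟩

section Stab

variable {G}

theorem stab_cond {T : Sp S} (α : T ⟶ G.R) (x : T ⟶ G.U) (h1 : α ≫ G.t = x) (h2 : α ≫ G.s = x) :
    α ≫ G.j = x ≫ G.diag := by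
  apply pullback.hom_ext
  · rw [Category.assoc, G.j_fst, h1, Category.assoc, GroupoidSp.diag, pullback.lift_fst, Category.comp_id]
  · rw [Category.assoc, G.j_snd, h2, Category.assoc, GroupoidSp.diag, pullback.lift_snd, Category.comp_id]

/-- Maps to the stabilizer. -/
noncomputable def stabLift {T : Sp S} (α : T ⟶ G.R) (x : T ⟶ G.U) (h1 : α ≫ G.t = x) (h2 : α ≫ G.s = x) :
    T ⟶ G.stabilizer := pullback.lift α x (stab_cond α x h1 h2)

theorem stabLift_ι {T : Sp S} (α : T ⟶ G.R) (x : T ⟶ G.U) (h1 : α ≫ G.t = x) (h2 : α ≫ G.s = x) :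
    stabLift α x h1 h2 ≫ G.stabilizerι = α := pullback.lift_fst _ _ _

theorem stabLift_toU {T : Sp S} (α : T ⟶ G.R) (x : T ⟶ G.U) (h1 : α ≫ G.t = x) (h2 : α ≫ G.s = x) :
    stabLift α x h1 h2 ≫ G.stabilizerToU = x := pullback.lift_snd _ _ _

theorem stab_ext {T : Sp S} {a b : T ⟶ G.stabilizer} (h1 : a ≫ G.stabilizerι = b ≫ G.stabilizerι) (h2 : a ≫ G.stabilizerToU = b ≫ G.stabilizerToU) :
    a = b := pullback.hom_ext h1 h2

theorem stabilizerι_t : G.stabilizerι ≫ G.t = G.stabilizerToU := by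
  have h := congrArg (· ≫ pullback.fst G.pU G.pU) (pullback.condition (f := G.j) (g := G.diag))
  simp only [Category.assoc, G.j_fst, GroupoidSp.diag, pullback.lift_fst, Category.comp_id] at h
  exact h

theorem stabilizerι_s : G.stabilizerι ≫ G.s = G.stabilizerToU := by
  have h := congrArg (· ≫ pullback.snd G.pU G.pU) (pullback.condition (f := G.j) (g := G.diag))
  simp only [Category.assoc, G.j_snd, GroupoidSp.diag, pullback.lift_snd, Category.comp_id] at h
  exact h

/-- conjugation `h ↦ r⁻¹ ∘ h ∘ r` for `h` an automorphism of the target of `r` -/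
noncomputable def conj {T : Sp S} (h r : T ⟶ G.R) (h1 : h ≫ G.t = r ≫ G.t) (h2 : h ≫ G.s = r ≫ G.t) : T ⟶ G.R :=
  mul G (inv G r) (mul G h r h2) (by rw [inv_s, mul_t, h1])

theorem conj_t {T : Sp S} (h r : T ⟶ G.R) (h1 : h ≫ G.t = r ≫ G.t) (h2 : h ≫ G.s = r ≫ G.t) :
    conj h r h1 h2 ≫ G.t = r ≫ G.s := by rw [conj, mul_t, inv_t]

theorem conj_s {T : Sp S} (h r : T ⟶ G.R) (h1 : h ≫ G.t = r ≫ G.t) (h2 : h ≫ G.s = r ≫ G.t) :
    conj h r h1 h2 ≫ G.s = r ≫ G.s := by rw [conj, mul_s, mul_s]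

/-- conjugation `h' ↦ r ∘ h' ∘ r⁻¹` for `h'` an automorphism of the source of `r` -/
noncomputable def conj' {T : Sp S} (h r : T ⟶ G.R) (h1 : h ≫ G.t = r ≫ G.s) (h2 : h ≫ G.s = r ≫ G.s) : T ⟶ G.R :=
  mul G (mul G r h h1.symm) (inv G r) (by rw [inv_t, mul_s, h2])

theorem conj'_t {T : Sp S} (h r : T ⟶ G.R) (h1 : h ≫ G.t = r ≫ G.s) (h2 : h ≫ G.s = r ≫ G.s) :
    conj' h r h1 h2 ≫ G.t = r ≫ G.t := by rw [conj', mul_t, mul_t]

theorem conj'_s {T : Sp S} (h r : T ⟶ G.R) (h1 : h ≫ G.t = r ≫ G.s) (h2 : h ≫ G.s = r ≫ G.s) :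
    conj' h r h1 h2 ≫ G.s = r ≫ G.t := by rw [conj', mul_s, inv_s]

theorem conj_conj' {T : Sp S} (h r : T ⟶ G.R) (h1 : h ≫ G.t = r ≫ G.s) (h2 : h ≫ G.s = r ≫ G.s) :
    conj (conj' h r h1 h2) r (conj'_t h r h1 h2) (conj'_s h r h1 h2) = h := by
  unfold conj conj'
  refine (mul_congr G _ rfl (inv_mul_cancel_right G _ r (by rw [inv_t, mul_s, h2]) _)).trans ?_
  exact inv_mul_cancel_left G r h h1.symm _

theorem conj'_conj {T : Sp S} (h r : T ⟶ G.R) (h1 : h ≫ G.t = r ≫ G.t) (h2 : h ≫ G.s = r ≫ G.t) :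
    conj' (conj h r h1 h2) r (conj_t h r h1 h2) (conj_s h r h1 h2) = h := by
  unfold conj conj'
  refine (mul_congr G _ (mul_inv_cancel_left G r _ (by rw [inv_s, mul_t, h1]) _) rfl).trans ?_
  exact mul_inv_cancel_right G h r h2 _

theorem conj_congr {T : Sp S} {h r h' r' : T ⟶ G.R} {h1 : h ≫ G.t = r ≫ G.t} {h2 : h ≫ G.s = r ≫ G.t}
    (e : h = h') (e' : r = r') :
    conj h r h1 h2 = conj h' r' (by rw [← e, ← e', h1]) (by rw [← e, ← e', h2]) := by
  subst e e'; rfl

theorem conj'_congr {T : Sp S} {h r h' r' : T ⟶ G.R} {h1 : h ≫ G.t = r ≫ G.s} {h2 : h ≫ G.s = r ≫ G.s}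
    (e : h = h') (e' : r = r') :
    conj' h r h1 h2 = conj' h' r' (by rw [← e, ← e', h1]) (by rw [← e, ← e', h2]) := by
  subst e e'; rfl

theorem comp_conj {T T' : Sp S} (f : T' ⟶ T) (h r : T ⟶ G.R) (h1 : h ≫ G.t = r ≫ G.t) (h2 : h ≫ G.s = r ≫ G.t) :
    f ≫ conj h r h1 h2 = conj (f ≫ h) (f ≫ r) (by rw [Category.assoc, h1, Category.assoc])
      (by rw [Category.assoc, h2, Category.assoc]) := by
  unfold conj
  rw [comp_mul]
  exact mul_congr G _ (comp_inv G _ _) (comp_mul G _ _ _ _)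

variable (G)

theorem aux_t : (pullback.fst G.stabilizerToU G.t ≫ G.stabilizerι) ≫ G.t = pullback.snd G.stabilizerToU G.t ≫ G.t := by
  rw [Category.assoc, stabilizerι_t, pullback.condition]

theorem aux_s : (pullback.fst G.stabilizerToU G.t ≫ G.stabilizerι) ≫ G.s = pullback.snd G.stabilizerToU G.t ≫ G.t := by
  rw [Category.assoc, stabilizerι_s, pullback.condition]

/-- The conjugation map on the pullback of the stabilizer along `t`. -/
noncomputable def conjMap : pullback G.stabilizerToU G.t ⟶ G.stabilizer :=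
  stabLift (conj (pullback.fst G.stabilizerToU G.t ≫ G.stabilizerι) (pullback.snd G.stabilizerToU G.t) (aux_t G) (aux_s G))
    (pullback.snd G.stabilizerToU G.t ≫ G.s) (conj_t _ _ _ _) (conj_s _ _ _ _)

theorem isPullback_conjMap : IsPullback (conjMap G) (pullback.snd G.stabilizerToU G.t) G.stabilizerToU G.s where
  w := stabLift_toU _ _ _ _
  isLimit' := ⟨PullbackCone.IsLimit.mk _
    (fun σ => pullback.lift (stabLift (conj' (σ.fst ≫ G.stabilizerι) σ.snd
        (by rw [Category.assoc, stabilizerι_t, σ.condition]) (by rw [Category.assoc, stabilizerι_s, σ.condition]))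
        (σ.snd ≫ G.t) (conj'_t _ _ _ _) (conj'_s _ _ _ _)) σ.snd (stabLift_toU _ _ _ _))
    (fun σ => by
      apply stab_ext
      · rw [conjMap, Category.assoc, stabLift_ι, comp_conj]
        refine (conj_congr (by rw [← Category.assoc, pullback.lift_fst, stabLift_ι]) (pullback.lift_snd _ _ _)).trans ?_
        exact conj_conj' _ _ _ _
      · rw [conjMap, Category.assoc, stabLift_toU, ← Category.assoc, pullback.lift_snd, σ.condition])
    (fun σ => pullback.lift_snd _ _ _)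
    (fun σ m h1 h2 => by
      apply pullback.hom_ext
      · rw [pullback.lift_fst]
        apply stab_ext
        · have e1 : (m ≫ pullback.fst _ _ ≫ G.stabilizerι) ≫ G.t = (m ≫ pullback.snd _ _) ≫ G.t := by
            rw [Category.assoc, aux_t, Category.assoc]
          have e2 : (m ≫ pullback.fst _ _ ≫ G.stabilizerι) ≫ G.s = (m ≫ pullback.snd _ _) ≫ G.t := by
            rw [Category.assoc, aux_s, Category.assoc]
          rw [stabLift_ι, Category.assoc]
          refine (conj'_conj (m ≫ pullback.fst _ _ ≫ G.stabilizerι) (m ≫ pullback.snd _ _) e1 e2).symm.trans ?_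
          refine conj'_congr ?_ h2
          rw [← comp_conj _ _ _ (aux_t G) (aux_s G), ← h1, Category.assoc, conjMap, stabLift_ι]
        · rw [stabLift_toU, Category.assoc, pullback.condition, ← Category.assoc, h2]
      · rw [pullback.lift_snd, h2])⟩

theorem isAlgSpace_stabilizer (hB : IsAlgSpace B) (hU : IsAlgSpace G.U) (hR : IsAlgSpace G.R) :
    IsAlgSpace G.stabilizer :=
  K613.Chart.isAlgSpace_pullback hR hU (K613.Chart.isAlgSpace_pullback hU hU hB _ _) _ _

end Stab

end K649.TauInv
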