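import Groth.Agent.S10649
import Groth.Agent.S10059
import Groth.Agent.S10004
import Groth.Agent.S10278
import Groth.Agent.S9964
import Groth.Agent.S9965
import Groth.Agent.AlgSp.K597.ProperSub
import Groth.Agent.AlgSp.K597.Proper
import Groth.Agent.AlgSp.K604.LimSepY
import Groth.Agent.AlgSp.K605.ImmMain
import Groth.Agent.AlgSp.K596.ClosedQC
import Groth.Agent.AlgSp.K608.OpenEmb
import Groth.Prelude.Def_AlgSpSub

/-!
# A separated universal homeomorphism of algebraic spaces is representable and integral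
-/

set_option autoImplicit false
universe u
open CategoryTheory CategoryTheory.Limits AlgebraicGeometry Opposite
open AlgSp

namespace K649.UnivHomeo

variable {S : Scheme.{u}}

/-- Relative approximation of quasi-compact quasi-separated algebraic spaces (the content of S10039). -/
def Approx (S : Scheme.{u}) : Prop :=
  ∀ {X Y : AlgSp.Space S} (f : X ⟶ Y) (_ : AlgSp.IsQuasiCompactSp X.obj) (_ : AlgSp.IsQuasiSeparatedSp X.obj)
    (_ : AlgSp.IsQuasiSeparatedSp Y.obj),
    ∃ (I : Type u) (_ : Preorder I) (_ : IsDirected I (fun a b => a ≤ b)) (_ : Nonempty I)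
      (D : Iᵒᵖ ⥤ AlgSp.Sp S) (t : D ⟶ (Functor.const Iᵒᵖ).obj Y.obj) (c : Cone D) (_ : IsLimit c) (e : c.pt ≅ X.obj),
      (∀ i, AlgSp.IsAlgSpace (D.obj i)) ∧ (∀ (i j : Iᵒᵖ) (φ : i ⟶ j), AlgSp.IsAffineMor (D.map φ)) ∧
      (∀ i, AlgSp.IsFinitePresentationMor (t.app i)) ∧ (∀ i, e.inv ≫ c.π.app i ≫ t.app i = f.hom)

theorem isQuasiSeparatedMor_of_isSeparatedMor {X Y : Sp S} {f : X ⟶ Y} (h : IsSeparatedMor f) :
    IsQuasiSeparatedMor f :=
  K597.repWith_mono (fun _ _ f (_ : IsClosedImmersion f) => (inferInstance : QuasiCompact f)) h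

theorem isUnivClosedMor_of_isUnivHomeoMor {X Y : Sp S} {f : X ⟶ Y} (h : IsUnivHomeoMor f) : IsUnivClosedMor f :=
  fun _ _ hT g fst snd sq => (h hT g fst snd sq).isClosedMap

theorem isUnivHomeoMor_of_isPullback {X Y Z P : Sp S} {f : X ⟶ Z} {g : Y ⟶ Z} {fst : P ⟶ X} {snd : P ⟶ Y}
    (sq : IsPullback fst snd f g) (hf : IsUnivHomeoMor f) : IsUnivHomeoMor snd :=
  fun _ _ hT t _ _ sqT => hf hT (t ≫ g) _ _ (sqT.paste_horiz sq)

/-- A space of finite type and separated over an affine scheme, receiving a surjective map from a universal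
homeomorphism, is finite. -/
theorem isFiniteMor_of_surjective {X Z₁ : Sp S} (hZ₁ : IsAlgSpace Z₁) {Z : Over S}
    {h : X ⟶ Z₁} (hs : Function.Surjective (Points.map h)) {q₁ : Z₁ ⟶ (yon S).obj Z}
    (hsep : IsSeparatedMor q₁) (hft : LocP @LocallyOfFiniteType q₁) (hh : IsUnivHomeoMor (h ≫ q₁)) :
    IsFiniteMor q₁ := by
  have hc : IsUnivClosedMor q₁ :=
    K596.SepSurj.isUnivClosedMor_of_precomp hs (isUnivClosedMor_of_isUnivHomeoMor hh)
  let A : Space S := ⟨Z₁, hZ₁⟩
  let B : Space S := ⟨(yon S).obj Z, IsAlgSpace.yon_obj Z⟩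
  let q : A ⟶ B := ⟨q₁⟩
  have h03 : IsFiniteMor q.hom ↔ (IsUnivClosedMor q.hom ∧ IsSeparatedMor q.hom ∧ LocP @LocallyOfFiniteType q.hom ∧
      ∀ (k : FieldPt B.obj) (Xk : Sp S) (fst : Xk ⟶ A.obj) (snd : Xk ⟶ (yon S).obj k.pt),
        IsPullback fst snd q.hom k.toHom → DiscreteTopology (Points Xk)) := (Groth.Agent.S10649.result q).out 0 3
  refine h03.2 ⟨hc, hsep, hft, fun k P fst snd sq => ?_⟩
  have sq' : IsPullback fst snd q₁ k.toHom := sq
  have sq1 := IsPullback.of_hasPullback h fst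
  have h1 : IsHomeomorph (Points.map (pullback.snd h fst ≫ snd)) :=
    hh (IsAlgSpace.yon_obj k.pt) k.toHom _ _ (sq1.flip.paste_horiz sq'.flip).flip
  have hs1 : Function.Surjective (Points.map (pullback.snd h fst)) :=
    K609.Points.surjective_map_of_isPullback sq1.flip hs
  have : Subsingleton ↥(k.pt).left := inferInstanceAs (Subsingleton ↥(Spec (CommRingCat.of k.K)))
  have : Subsingleton (Points ((yon S).obj k.pt)) :=
    (Points.schemeEquiv k.pt).symm.injective.subsingleton
  have h2 : Subsingleton (Points (pullback h fst)) := h1.injective.subsingleton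
  have h3 : Subsingleton (Points P) := hs1.subsingleton
  exact Subsingleton.discreteTopology

theorem affine_comp {X Y Z : Sp S} {f : X ⟶ Y} {g : Y ⟶ Z} (hf : RepWith @IsAffineHom f) (hg : RepWith @IsAffineHom g) :
    RepWith @IsAffineHom (f ≫ g) := by
  have : MorphismProperty.IsStableUnderComposition @IsAffineHom.{u} :=
      (inferInstance : MorphismProperty.IsMultiplicative @IsAffineHom.{u}).toIsStableUnderComposition
  exact K597.repWith_comp @IsAffineHom.{u} hf hg

theorem isIntegralMor_of_affine [QuasiSeparatedSpace S] (H : Approx S) {X : Sp S} (hX : IsAlgSpace X) {Z : Over S}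
    (hZ : IsAffine Z.left) (q : X ⟶ (yon S).obj Z) (hsep : IsSeparatedMor q) (hh : IsUnivHomeoMor q) :
    IsIntegralMor q := by
  have hc := isUnivClosedMor_of_isUnivHomeoMor hh
  let A : Space S := ⟨X, hX⟩
  let B : Space S := ⟨(yon S).obj Z, IsAlgSpace.yon_obj Z⟩
  let q₀ : A ⟶ B := ⟨q⟩
  have hZc : CompactSpace ↥Z.left := inferInstance
  have hZqs : IsQuasiSeparatedSp ((yon S).obj Z) := K604.LimSepY.isQuasiSeparatedSp_yon hZ
  have hXc : IsQuasiCompactSp X := K596.ClosedQC.isQuasiCompactMor_of_isUnivClosedMor hX (IsAlgSpace.yon_obj Z) hc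
    (IsAlgSpace.yon_obj Z) (K596.QC.isQuasiCompactSp_yon Z) (𝟙 _) (𝟙 _) q (IsPullback.id_horiz q)
  have hXqs : IsQuasiSeparatedSp X :=
    K605.ImmMain.isQuasiSeparatedSp_of_mor (isQuasiSeparatedMor_of_isSeparatedMor hsep) hZqs
  obtain ⟨I, _, _, _, D, t, c, hc', e, hD, hDa, hfp, hcomm⟩ := H q₀ hXc hXqs hZqs
  have hqcD : ∀ i, IsQuasiCompactSp (D.obj i) := fun i =>
    (hfp i).2.1 (IsAlgSpace.yon_obj Z) (K596.QC.isQuasiCompactSp_yon Z) (𝟙 _) (𝟙 _) (t.app i) (IsPullback.id_horiz _)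
  have hqsD : ∀ i, IsQuasiSeparatedSp (D.obj i) := fun i =>
    K605.ImmMain.isQuasiSeparatedSp_of_mor (hfp i).2.2 hZqs
  have hg : ∀ i, c.π.app i ≫ t.app i = e.hom ≫ q := fun i => by
    have := hcomm i
    rw [Iso.inv_comp_eq] at this
    exact this
  have hsep' : IsSeparatedMor (e.hom ≫ q) :=
    K595.DiagRel.isSeparatedMor_isMultiplicative.comp_mem _ _ (MorphismProperty.of_isIso IsSeparatedMor e.hom) hsep
  obtain ⟨i₀, hi₀⟩ := Groth.Agent.S10059.result S B D hD t hDa c hc' (e.hom ≫ q) hg hqcD hqsD hZqs hsep'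
  have hsepi : IsSeparatedMor (t.app i₀) := hi₀ i₀ (𝟙 i₀)
  -- the affine map to the stage
  let h : X ⟶ D.obj i₀ := e.inv ≫ c.π.app i₀
  have hha : RepWith @IsAffineHom h := by
    have h1 : RepWith @IsAffineHom (c.π.app i₀) :=
      K597.Affine.isAffineMor_iff.1 ((Groth.Agent.S10004.result S D hD hDa c hc').2 i₀)
    exact MorphismProperty.RespectsLeft.precomp (P := RepWith @IsAffineHom.{u}) (Q := MorphismProperty.isomorphisms _)
      e.inv (inferInstanceAs (IsIso e.inv)) _ h1
  have hht : h ≫ t.app i₀ = q := by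
    have := hcomm i₀
    rw [← Category.assoc] at this
    exact this
  have hhqc : IsQuasiCompactMor h := K596.QC.isQuasiCompactMor_of_repWith
    (K597.repWith_mono (fun _ _ f (_ : IsAffineHom f) => (inferInstance : QuasiCompact f)) hha)
  let E : Space S := ⟨D.obj i₀, hD i₀⟩
  let h₀ : A ⟶ E := ⟨h⟩
  let t₀ : E ⟶ B := ⟨t.app i₀⟩
  -- the scheme theoretic image
  obtain ⟨Z₁, j, hj⟩ := Groth.Agent.S9964.result h₀
  obtain ⟨hjc, ⟨h', hh'⟩, -⟩ := id hj
  have hr := (Groth.Agent.S9965.result h₀ j hhqc hj).2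
  have hcl := ((Groth.Agent.S10278.result h₀ q₀ t₀ (by ext : 1; exact hht) hsepi).1 hc).2
  have hjm : Mono j.hom := K610.Factor.mono_of_isClosedImmersion hjc
  have hs' : Function.Surjective (Points.map h') := by
    intro z
    have h1 : Points.map j.hom z ∈ Set.range (Points.map h) := by
      have h2 := hr ⟨z, rfl⟩
      have h3 : IsClosed (Set.range (Points.map h)) := hcl
      rwa [show closure (Set.range (Points.map h₀.hom)) = Set.range (Points.map h) from h3.closure_eq] at h2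
    obtain ⟨x, hx⟩ := h1
    refine ⟨x, K608.OpenEmb.points_injective_of_mono j.hom ?_⟩
    rw [← Points.map_comp, hh']
    exact hx
  have hq₁ : h' ≫ j.hom ≫ t.app i₀ = q := by
    rw [← Category.assoc, hh']
    exact hht
  have hsep₁ : IsSeparatedMor (j.hom ≫ t.app i₀) :=
    K595.DiagRel.isSeparatedMor_isMultiplicative.comp_mem _ _ (K597.ProperSub.isSeparatedMor_of_closed hjc) hsepi
  have hft₁ : LocP @LocallyOfFiniteType (j.hom ≫ t.app i₀) :=
    K597.locP_comp K597.etLoc_lft Z₁.2.hasAtlas (hD i₀).hasAtlas (IsAlgSpace.yon_obj Z).hasAtlas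
      (K597.ProperSub.locP_lft_of_closed hjc)
      (K597.locP_mono (fun _ _ f (_ : LocallyOfFinitePresentation f) => (inferInstance : LocallyOfFiniteType f))
        (hfp i₀).1)
  have hfin : IsFiniteMor (j.hom ≫ t.app i₀) :=
    isFiniteMor_of_surjective Z₁.2 hs' hsep₁ hft₁ (by rw [hq₁]; exact hh)
  have hfa : RepWith @IsAffineHom (j.hom ≫ t.app i₀) :=
    K597.repWith_mono K617.FinLoc.finite_le (K617.FinLoc.isFiniteMor_iff.1 hfin)
  have hha' : RepWith @IsAffineHom h' := by
    have h1 : RepWith @IsAffineHom (h' ≫ j.hom) := by rw [hh']; exact hha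
    have : MorphismProperty.IsStableUnderComposition @IsAffineHom.{u} :=
      (inferInstance : MorphismProperty.IsMultiplicative @IsAffineHom.{u}).toIsStableUnderComposition
    exact K613.Diag.repWith_of_comp h1
      (K597.repWith_mono (fun _ _ f (_ : IsClosedImmersion f) => (inferInstance : IsAffineHom f))
        (K597.ProperSub.isSeparatedMor_of_closed hjc))
  refine K597.Proper.isIntegralMor_iff_affine_univClosed.2 ⟨K597.Affine.isAffineMor_iff.2 ?_, hc⟩
  rw [← hq₁]
  exact affine_comp hha' hfa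

/-- A separated universal homeomorphism is integral. -/
theorem isIntegralMor [QuasiSeparatedSpace S] (H : Approx S) {X Y : Sp S} (hX : IsAlgSpace X) (hY : IsAlgSpace Y)
    (f : X ⟶ Y) (hsep : IsSeparatedMor f) (hh : IsUnivHomeoMor f) : IsIntegralMor f := by
  intro Z hZ g
  have sq := IsPullback.of_hasPullback f g
  obtain ⟨W, i, fst, sq', hW, hi⟩ := isIntegralMor_of_affine H
    (K613.Chart.isAlgSpace_pullback hX (IsAlgSpace.yon_obj Z) hY f g) hZ (pullback.snd f g)
    (K595.DiagRel.isSeparatedMor_isStableUnderBaseChange.of_isPullback sq hsep)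
    (isUnivHomeoMor_of_isPullback sq hh) hZ (𝟙 _)
  refine ⟨W, i, fst ≫ pullback.fst f g, ?_, hW, hi⟩
  have h1 := sq'.paste_horiz sq
  rwa [Category.id_comp] at h1

end K649.UnivHomeo
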